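import Mathlib
import Cfsg.Agent.Lib.Classical.Symplectic

/-!
# Subgroups of `Sp_{2k+2}(q)` seen from the stabiliser of a point

Coordinates for the stabiliser of a point, and the three invariants of a subgroup `H` there: the group of
translation parts `trPart H`, its central part `zPart H` and the image `levPart H` in the Levi factor.
-/

set_option autoImplicit false
set_option linter.unusedSectionVars false

namespace Cfsg.Agent.Classical.PSpMinIndex

open Matrix
open scoped LinearAlgebra.Projectivization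
open Cfsg.Agent.Forms.SympStd
open Cfsg.Agent.Classical.Symplectic

variable {F : Type*} [Field F] {k : ℕ}

local notation "Vk" => (Fin k ⊕ Fin k → F)
local notation "Vec" => (Fin (k + 1) ⊕ Fin (k + 1) → F)
local notation "Mat" => Matrix (Fin (k + 1) ⊕ Fin (k + 1)) (Fin (k + 1) ⊕ Fin (k + 1)) F
local notation "Sp" => Matrix.symplecticGroup (Fin (k + 1)) F
local notation "Spk" => Matrix.symplecticGroup (Fin k) F
local notation "f" => Cfsg.sympForm (k + 1) F
local notation "fk" => Cfsg.sympForm k F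

/-! ### Coordinates -/

/-- The first vector of the first hyperbolic pair. -/
def eP : Vec := Pi.single (Sum.inr 0) 1

/-- The second vector of the first hyperbolic pair. -/
def eQ : Vec := Pi.single (Sum.inl 0) 1

/-- The orthogonal complement of the first hyperbolic pair. -/
def emb : Vk →ₗ[F] Vec where
  toFun w := Sum.elim (Fin.cons 0 fun i => w (Sum.inl i)) (Fin.cons 0 fun i => w (Sum.inr i))
  map_add' w w' := by
    ext (i | i) <;> refine Fin.cases ?_ (fun j => ?_) i <;> simp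
  map_smul' a w := by
    ext (i | i) <;> refine Fin.cases ?_ (fun j => ?_) i <;> simp

/-- The projection to the orthogonal complement of the first hyperbolic pair. -/
def res : Vec →ₗ[F] Vk where
  toFun x := Sum.elim (fun i => x (Sum.inl i.succ)) fun i => x (Sum.inr i.succ)
  map_add' x y := by ext (i | i) <;> simp
  map_smul' a x := by ext (i | i) <;> simp

@[simp] theorem emb_inr_zero (w : Vk) : emb w (Sum.inr 0) = 0 := rfl
@[simp] theorem emb_inl_zero (w : Vk) : emb w (Sum.inl 0) = 0 := rfl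
@[simp] theorem eP_inr_zero : (eP : Vec) (Sum.inr 0) = 1 := by simp [eP]
@[simp] theorem eP_inl_zero : (eP : Vec) (Sum.inl 0) = 0 := by simp [eP]
@[simp] theorem eQ_inr_zero : (eQ : Vec) (Sum.inr 0) = 0 := by simp [eQ]
@[simp] theorem eQ_inl_zero : (eQ : Vec) (Sum.inl 0) = 1 := by simp [eQ]

@[simp] theorem res_emb (w : Vk) : res (emb w : Vec) = w := by
  ext (i | i) <;> simp [res, emb]

@[simp] theorem res_eP : res (eP : Vec) = 0 := by
  ext (i | i) <;> simp [res, eP, Pi.single_apply, Fin.succ_ne_zero]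

@[simp] theorem res_eQ : res (eQ : Vec) = 0 := by
  ext (i | i) <;> simp [res, eQ, Pi.single_apply, Fin.succ_ne_zero]

theorem decomp (x : Vec) : x = x (Sum.inr 0) • eP + x (Sum.inl 0) • eQ + emb (res x) := by
  ext (i | i) <;> refine Fin.cases ?_ (fun j => ?_) i <;>
    simp [emb, res, eP, eQ, Pi.single_apply, Fin.succ_ne_zero]

theorem vec_ext {x y : Vec} (h1 : x (Sum.inr 0) = y (Sum.inr 0)) (h2 : x (Sum.inl 0) = y (Sum.inl 0))
    (h3 : res x = res y) : x = y := by
  rw [decomp x, decomp y, h1, h2, h3]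

theorem form_eq (x y : Vec) :
    f x y = x (Sum.inr 0) * y (Sum.inl 0) - x (Sum.inl 0) * y (Sum.inr 0) + fk (res x) (res y) := by
  rw [sympForm_eq, sympForm_eq, Fin.sum_univ_succ]
  rfl

@[simp] theorem fk_zero_left (y : Vk) : fk 0 y = 0 := by simp [sympForm_eq]
@[simp] theorem fk_zero_right (y : Vk) : fk y 0 = 0 := by simp [sympForm_eq]

theorem eP_ne_zero : (eP : Vec) ≠ 0 := fun h => by simpa using congrFun h (Sum.inr 0)
theorem eQ_ne_zero : (eQ : Vec) ≠ 0 := fun h => by simpa using congrFun h (Sum.inl 0)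

theorem emb_injective : Function.Injective (emb : Vk →ₗ[F] Vec) :=
  Function.LeftInverse.injective res_emb

theorem form_emb (w w' : Vk) : f (emb w) (emb w') = fk w w' := by simp [form_eq]

theorem fk_nondeg {x : Vk} (h : ∀ y, fk x y = 0) : x = 0 := by
  by_contra hx
  obtain ⟨w, hw⟩ := Symplectic.exists_partner hx
  rw [h w] at hw
  exact zero_ne_one hw

/-! ### Elements -/

/-- An isometry as an element of the symplectic group. -/
noncomputable def mkSp (φ : Vec →ₗ[F] Vec) (h : ∀ x y, f (φ x) (φ y) = f x y) : Sp :=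
  ⟨LinearMap.toMatrix' φ, mem_sp_iff.2 fun u v => by
    simp only [← Matrix.toLin'_apply, Matrix.toLin'_toMatrix']
    exact h u v⟩

theorem mkSp_mulVec (φ : Vec →ₗ[F] Vec) (h : ∀ x y, f (φ x) (φ y) = f x y) (x : Vec) :
    (mkSp φ h : Mat) *ᵥ x = φ x := by
  simp [mkSp, ← Matrix.toLin'_apply]

/-- The linear map underlying `uu`. -/
def uuLin (w : Vk) (z : F) : Vec →ₗ[F] Vec where
  toFun x := x + (-x (Sum.inl 0)) • emb w + (fk (res x) w - z * x (Sum.inl 0)) • eP
  map_add' x y := by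
    simp only [Pi.add_apply, map_add, Symplectic.f_add_left]
    module
  map_smul' a x := by
    simp only [Pi.smul_apply, smul_eq_mul, map_smul, Symplectic.f_smul_left, RingHom.id_apply]
    module

theorem uuLin_isometry (w : Vk) (z : F) (x y : Vec) : f (uuLin w z x) (uuLin w z y) = f x y := by
  simp only [uuLin, LinearMap.coe_mk, AddHom.coe_mk, form_eq, map_add, map_smul, map_neg, Pi.add_apply,
    Pi.smul_apply, smul_eq_mul, res_emb, res_eP, emb_inr_zero, emb_inl_zero, eP_inr_zero, eP_inl_zero,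
    smul_zero, add_zero, mul_zero, mul_one, zero_add, Symplectic.f_add_left, Symplectic.f_add_right,
    Symplectic.f_smul_left, Symplectic.f_smul_right, sympForm_self]
  rw [sympForm_swap (res y) w]
  ring

/-- The unipotent radical of the point stabiliser. -/
noncomputable def uu (w : Vk) (z : F) : Sp := mkSp (uuLin w z) (uuLin_isometry w z)

theorem uu_mulVec (w : Vk) (z : F) (x : Vec) :
    (uu w z : Mat) *ᵥ x = x + (-x (Sum.inl 0)) • emb w + (fk (res x) w - z * x (Sum.inl 0)) • eP :=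
  mkSp_mulVec _ _ x

@[simp] theorem uu_inr (w : Vk) (z : F) (x : Vec) :
    ((uu w z : Mat) *ᵥ x) (Sum.inr 0) = x (Sum.inr 0) + (fk (res x) w - z * x (Sum.inl 0)) := by
  simp [uu_mulVec]

@[simp] theorem uu_inl (w : Vk) (z : F) (x : Vec) :
    ((uu w z : Mat) *ᵥ x) (Sum.inl 0) = x (Sum.inl 0) := by simp [uu_mulVec]

@[simp] theorem uu_res (w : Vk) (z : F) (x : Vec) :
    res ((uu w z : Mat) *ᵥ x) = res x - x (Sum.inl 0) • w := by
  simp [uu_mulVec, sub_eq_add_neg]

theorem uu_mul (w w' : Vk) (z z' : F) :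
    (uu w z : Sp) * uu w' z' = uu (w + w') (z + z' + fk w' w) := by
  refine sp_ext fun x => vec_ext ?_ ?_ ?_ <;> rw [mul_mulVec_sp] <;>
    simp only [uu_inr, uu_inl, uu_res, sub_eq_add_neg, ← neg_smul, Symplectic.f_add_left,
      Symplectic.f_add_right, Symplectic.f_smul_left]
  · ring
  · module

theorem uu_zero : (uu 0 0 : Sp) = 1 := by
  refine sp_ext fun x => vec_ext ?_ ?_ ?_ <;> simp

theorem uu_inv (w : Vk) (z : F) : (uu w z : Sp)⁻¹ = uu (-w) (-z) := by
  refine inv_eq_of_mul_eq_one_right ?_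
  have h : fk (-w) w = 0 := by
    rw [← neg_one_smul F, Symplectic.f_smul_left, sympForm_self, mul_zero]
  rw [uu_mul, h, add_neg_cancel, add_neg_cancel, add_zero, uu_zero]

theorem uu_zero_eq_tv (z : F) : (uu 0 z : Sp) = tv eP z := by
  refine sp_ext fun x => vec_ext ?_ ?_ ?_ <;> simp [tv_mulVec, form_eq]

/-- The linear map underlying `levi`. -/
def leviLin (a : Fˣ) (g : Spk) : Vec →ₗ[F] Vec where
  toFun x := ((a : F) * x (Sum.inr 0)) • eP + (((a⁻¹ : Fˣ) : F) * x (Sum.inl 0)) • eQ +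
    emb ((g : Matrix (Fin k ⊕ Fin k) (Fin k ⊕ Fin k) F) *ᵥ res x)
  map_add' x y := by
    simp only [Pi.add_apply, map_add, Matrix.mulVec_add]
    module
  map_smul' c x := by
    simp only [Pi.smul_apply, smul_eq_mul, map_smul, Matrix.mulVec_smul, RingHom.id_apply]
    module

theorem leviLin_isometry (a : Fˣ) (g : Spk) (x y : Vec) : f (leviLin a g x) (leviLin a g y) = f x y := by
  simp only [leviLin, LinearMap.coe_mk, AddHom.coe_mk, form_eq, map_add, map_smul, Pi.add_apply,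
    Pi.smul_apply, smul_eq_mul, res_emb, res_eP, res_eQ, emb_inr_zero, emb_inl_zero, eP_inr_zero,
    eP_inl_zero, eQ_inr_zero, eQ_inl_zero, smul_zero, add_zero, zero_add, mul_zero, mul_one,
    sympForm_mulVec]
  have h : (a : F) * ((a⁻¹ : Fˣ) : F) = 1 := by rw [← Units.val_mul, mul_inv_cancel, Units.val_one]
  linear_combination (x (Sum.inr 0) * y (Sum.inl 0) - x (Sum.inl 0) * y (Sum.inr 0)) * h

/-- The Levi factor of the point stabiliser. -/
noncomputable def levi (a : Fˣ) (g : Spk) : Sp := mkSp (leviLin a g) (leviLin_isometry a g)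

theorem levi_mulVec (a : Fˣ) (g : Spk) (x : Vec) :
    (levi a g : Mat) *ᵥ x = ((a : F) * x (Sum.inr 0)) • eP + (((a⁻¹ : Fˣ) : F) * x (Sum.inl 0)) • eQ +
      emb ((g : Matrix (Fin k ⊕ Fin k) (Fin k ⊕ Fin k) F) *ᵥ res x) :=
  mkSp_mulVec _ _ x

@[simp] theorem levi_inr (a : Fˣ) (g : Spk) (x : Vec) :
    ((levi a g : Mat) *ᵥ x) (Sum.inr 0) = (a : F) * x (Sum.inr 0) := by simp [levi_mulVec]

@[simp] theorem levi_inl (a : Fˣ) (g : Spk) (x : Vec) :
    ((levi a g : Mat) *ᵥ x) (Sum.inl 0) = ((a⁻¹ : Fˣ) : F) * x (Sum.inl 0) := by simp [levi_mulVec]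

@[simp] theorem levi_res (a : Fˣ) (g : Spk) (x : Vec) :
    res ((levi a g : Mat) *ᵥ x) = (g : Matrix (Fin k ⊕ Fin k) (Fin k ⊕ Fin k) F) *ᵥ res x := by
  simp [levi_mulVec]

theorem levi_mul (a b : Fˣ) (g g' : Spk) : (levi a g : Sp) * levi b g' = levi (a * b) (g * g') := by
  refine sp_ext fun x => vec_ext ?_ ?_ ?_ <;> rw [mul_mulVec_sp] <;>
    simp only [levi_inr, levi_inl, levi_res, mul_inv, Units.val_mul, mul_mulVec_sp] <;> ring

theorem levi_one : (levi 1 1 : Sp) = 1 := by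
  refine sp_ext fun x => vec_ext ?_ ?_ ?_ <;> simp

theorem levi_inv (a : Fˣ) (g : Spk) : (levi a g : Sp)⁻¹ = levi a⁻¹ g⁻¹ := by
  refine inv_eq_of_mul_eq_one_right ?_
  rw [levi_mul, mul_inv_cancel, mul_inv_cancel, levi_one]

theorem levi_uu (a : Fˣ) (g : Spk) (w : Vk) (z : F) :
    (levi a g : Sp) * uu w z =
      uu ((a : F) • ((g : Matrix (Fin k ⊕ Fin k) (Fin k ⊕ Fin k) F) *ᵥ w)) ((a : F) * a * z) * levi a g := by
  have h : (a : F) * ((a⁻¹ : Fˣ) : F) = 1 := by rw [← Units.val_mul, mul_inv_cancel, Units.val_one]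
  refine sp_ext fun x => vec_ext ?_ ?_ ?_ <;> rw [mul_mulVec_sp, mul_mulVec_sp] <;>
    simp only [levi_inr, levi_inl, levi_res, uu_inr, uu_inl, uu_res, Matrix.mulVec_sub,
      Matrix.mulVec_smul, Symplectic.f_smul_right, sympForm_mulVec]
  · linear_combination ((a : F) * z * x (Sum.inl 0)) * h
  · rw [smul_smul, show ((a⁻¹ : Fˣ) : F) * x (Sum.inl 0) * a = x (Sum.inl 0) by
      linear_combination x (Sum.inl 0) * h]

theorem levi_one_tv (v : Vk) (c : F) : (levi 1 (tv v c) : Sp) = tv (emb v) c := by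
  refine sp_ext fun x => vec_ext ?_ ?_ ?_ <;> simp [tv_mulVec, form_eq]

theorem uu_levi_inj {w w' : Vk} {z z' : F} {a a' : Fˣ} {g g' : Spk}
    (h : (uu w z : Sp) * levi a g = uu w' z' * levi a' g') : w = w' ∧ z = z' ∧ a = a' ∧ g = g' := by
  have hx : ∀ x : Vec, (uu w z : Mat) *ᵥ ((levi a g : Mat) *ᵥ x) =
      (uu w' z' : Mat) *ᵥ ((levi a' g' : Mat) *ᵥ x) := fun x => by
    rw [← mul_mulVec_sp, ← mul_mulVec_sp, h]
  have ha : a = a' := by
    have := congrFun (hx eP) (Sum.inr 0)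
    simp at this
    exact Units.ext this
  subst ha
  have hw : w = w' := by
    have := congrArg res (hx eQ)
    simpa [-Matrix.mulVec_mulVec] using this
  subst hw
  have hz : z = z' := by
    have := congrFun (hx eQ) (Sum.inr 0)
    simpa [-Matrix.mulVec_mulVec] using this
  subst hz
  exact ⟨rfl, rfl, rfl, sp_ext fun u => by simpa [-Matrix.mulVec_mulVec] using congrArg res (hx (emb u))⟩

/-! ### The point stabiliser -/

/-- The stabiliser of the point spanned by `eP`. -/
def ptStab : Subgroup Sp := MulAction.stabilizer Sp (Projectivization.mk F (eP : Vec) eP_ne_zero)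

theorem mem_ptStab {A : Sp} : A ∈ (ptStab : Subgroup Sp) ↔ ∃ a : F, (A : Mat) *ᵥ eP = a • eP := by
  rw [ptStab, MulAction.mem_stabilizer_iff, Symplectic.mk_smul', Projectivization.mk_eq_mk_iff']
  exact ⟨fun ⟨a, h⟩ => ⟨a, h.symm⟩, fun ⟨a, h⟩ => ⟨a, h.symm⟩⟩

theorem uu_mem_ptStab (w : Vk) (z : F) : (uu w z : Sp) ∈ (ptStab : Subgroup Sp) :=
  mem_ptStab.2 ⟨1, vec_ext (by simp) (by simp) (by simp)⟩

theorem levi_mem_ptStab (a : Fˣ) (g : Spk) : (levi a g : Sp) ∈ (ptStab : Subgroup Sp) :=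
  mem_ptStab.2 ⟨a, vec_ext (by simp) (by simp) (by simp)⟩

theorem exists_decomp {A : Sp} (hA : A ∈ (ptStab : Subgroup Sp)) :
    ∃ w z a g, A = uu w z * levi a g := by
  obtain ⟨a, ha⟩ := mem_ptStab.1 hA
  have ha0 : a ≠ 0 := fun h0 => by
    rw [h0, zero_smul] at ha
    have := congrArg ((A⁻¹ : Sp) : Mat).mulVec ha
    rw [← mul_mulVec_sp, inv_mul_cancel, Matrix.mulVec_zero] at this
    exact eP_ne_zero ((one_mulVec (eP : Vec)).symm.trans this)
  set u : Fˣ := Units.mk0 a ha0 with hu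
  have hB : ∀ x, ((A : Mat) *ᵥ x) (Sum.inl 0) = ((u⁻¹ : Fˣ) : F) * x (Sum.inl 0) := by
    intro x
    have h := sympForm_mulVec A eP x
    rw [ha, Symplectic.f_smul_left, form_eq, form_eq] at h
    simp only [eP_inr_zero, eP_inl_zero, res_eP, fk_zero_left, one_mul, zero_mul, sub_zero, add_zero] at h
    rw [← h, Units.val_inv_eq_inv_val, hu, Units.val_mk0, inv_mul_cancel_left₀ ha0]
  set w : Vk := (-a) • res ((A : Mat) *ᵥ eQ) with hw
  set z : F := -a * ((A : Mat) *ᵥ eQ) (Sum.inr 0) with hz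
  set L : Sp := (uu w z)⁻¹ * A with hL
  have h1 : (L : Mat) *ᵥ eP = a • eP := by
    rw [hL, uu_inv, mul_mulVec_sp, ha]
    exact vec_ext (by simp) (by simp) (by simp)
  have h2 : (L : Mat) *ᵥ eQ = ((u⁻¹ : Fˣ) : F) • eQ := by
    rw [hL, uu_inv, mul_mulVec_sp]
    refine vec_ext ?_ ?_ ?_
    · simp [hB, hw, hz, hu, Symplectic.f_smul_right, ← neg_smul, sympForm_self, mul_comm a, ha0]
    · simp [hB]
    · simp [-Matrix.mulVec_mulVec, hB, hw, hu, smul_smul, ha0]
  have h3 : ∀ v : Vk, (L : Mat) *ᵥ emb v = emb (res ((L : Mat) *ᵥ emb v)) := by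
    intro v
    have e1 := sympForm_mulVec L eP (emb v)
    have e2 := sympForm_mulVec L eQ (emb v)
    rw [h1, Symplectic.f_smul_left, form_eq, form_eq] at e1
    rw [h2, Symplectic.f_smul_left, form_eq, form_eq] at e2
    simp [ha0] at e1 e2
    exact vec_ext (by simp [e2]) (by simp [e1]) (by simp)
  let φ : Vk →ₗ[F] Vk := res.comp ((Matrix.toLin' (L : Mat)).comp emb)
  have hφ : ∀ v, φ v = res ((L : Mat) *ᵥ emb v) := fun v => rfl
  let g : Spk := ⟨LinearMap.toMatrix' φ, mem_sp_iff.2 fun x y => by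
    simp only [← Matrix.toLin'_apply, Matrix.toLin'_toMatrix', hφ]
    simp only [Matrix.toLin'_apply]
    rw [← form_emb, ← h3, ← h3, sympForm_mulVec, form_emb]⟩
  refine ⟨w, z, u, g, ?_⟩
  have hLl : L = levi u g := by
    refine sp_ext fun x => ?_
    rw [levi_mulVec]
    conv_lhs => rw [decomp x]
    rw [Matrix.mulVec_add, Matrix.mulVec_add, Matrix.mulVec_smul, Matrix.mulVec_smul, h1, h2,
      smul_smul, smul_smul, h3, mul_comm (x (Sum.inr 0)), mul_comm (x (Sum.inl 0))]
    congr 2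
    show _ = LinearMap.toMatrix' φ *ᵥ res x
    rw [LinearMap.toMatrix'_mulVec, hφ]
  rw [← hLl, hL, mul_inv_cancel_left]

/-- Coordinates on the point stabiliser. -/
noncomputable def ptEquiv : (Vk × F) × Fˣ × Spk ≃ (ptStab : Subgroup Sp) :=
  Equiv.ofBijective (fun p => ⟨uu p.1.1 p.1.2 * levi p.2.1 p.2.2,
    mul_mem (uu_mem_ptStab _ _) (levi_mem_ptStab _ _)⟩)
    ⟨fun p p' h => by
      obtain ⟨h1, h2, h3, h4⟩ := uu_levi_inj (congrArg Subtype.val h)
      exact Prod.ext (Prod.ext h1 h2) (Prod.ext h3 h4),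
    fun A => by
      obtain ⟨w, z, a, g, h⟩ := exists_decomp A.2
      exact ⟨⟨⟨w, z⟩, a, g⟩, Subtype.ext h.symm⟩⟩

theorem ptEquiv_apply (w : Vk) (z : F) (a : Fˣ) (g : Spk) :
    ((ptEquiv ((w, z), a, g) : (ptStab : Subgroup Sp)) : Sp) = uu w z * levi a g := rfl

theorem ptEquiv_mul (w w' : Vk) (z z' : F) (a a' : Fˣ) (g g' : Spk) :
    (ptEquiv ((w, z), a, g) : (ptStab : Subgroup Sp)) * ptEquiv ((w', z'), a', g') =
      ptEquiv ((w + (a : F) • ((g : Matrix (Fin k ⊕ Fin k) (Fin k ⊕ Fin k) F) *ᵥ w'),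
        z + (a : F) * a * z' + fk ((a : F) • ((g : Matrix (Fin k ⊕ Fin k) (Fin k ⊕ Fin k) F) *ᵥ w')) w),
        a * a', g * g') := by
  refine Subtype.ext ?_
  rw [Subgroup.coe_mul, ptEquiv_apply, ptEquiv_apply, ptEquiv_apply, mul_assoc, ← mul_assoc (levi a g),
    levi_uu, mul_assoc, ← mul_assoc, uu_mul, levi_mul]

/-- The projection of the point stabiliser to its Levi factor. -/
noncomputable def levProj : (ptStab : Subgroup Sp) →* Fˣ × Spk :=
  MonoidHom.mk' (fun A => (ptEquiv.symm A).2) fun A B => by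
    obtain ⟨⟨⟨w, z⟩, a, g⟩, rfl⟩ := ptEquiv.surjective A
    obtain ⟨⟨⟨w', z'⟩, a', g'⟩, rfl⟩ := ptEquiv.surjective B
    rw [ptEquiv_mul]
    simp

theorem levProj_apply (w : Vk) (z : F) (a : Fˣ) (g : Spk) :
    levProj (ptEquiv ((w, z), a, g) : (ptStab : Subgroup Sp)) = (a, g) := by
  simp [levProj]

/-! ### The invariants of a subgroup -/

variable (H : Subgroup (Matrix.symplecticGroup (Fin (k + 1)) F))

/-- The central part. -/
def zPart : AddSubgroup F where
  carrier := {z | uu (0 : Vk) z ∈ H}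
  zero_mem' := by simp [uu_zero, one_mem]
  add_mem' {a b} ha hb := by
    have := mul_mem (show uu (0 : Vk) a ∈ H from ha) (show uu (0 : Vk) b ∈ H from hb)
    simpa [uu_mul] using this
  neg_mem' {a} ha := by
    have := inv_mem (show uu (0 : Vk) a ∈ H from ha)
    simpa [uu_inv] using this

/-- The translation part. -/
def trPart : AddSubgroup Vk where
  carrier := {w | ∃ z, uu w z ∈ H}
  zero_mem' := ⟨0, by simp [uu_zero, one_mem]⟩
  add_mem' := by
    rintro a b ⟨z, ha⟩ ⟨z', hb⟩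
    exact ⟨_, by simpa [uu_mul] using mul_mem ha hb⟩
  neg_mem' := by
    rintro a ⟨z, ha⟩
    exact ⟨-z, by simpa [uu_inv] using inv_mem ha⟩

/-- The image in the Levi factor. -/
noncomputable def levPart : Subgroup (Fˣ × Spk) := (H.subgroupOf ptStab).map levProj

theorem mem_zPart {z : F} : z ∈ zPart H ↔ uu (0 : Vk) z ∈ H := Iff.rfl

theorem mem_trPart {w : Vk} : w ∈ trPart H ↔ ∃ z, uu w z ∈ H := Iff.rfl

theorem mem_levPart {p : Fˣ × Spk} :
    p ∈ levPart H ↔ ∃ w z, uu w z * levi p.1 p.2 ∈ H := by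
  constructor
  · rintro ⟨A, hA, rfl⟩
    obtain ⟨⟨⟨w, z⟩, a, g⟩, rfl⟩ := ptEquiv.surjective A
    rw [levProj_apply]
    exact ⟨w, z, hA⟩
  · rintro ⟨w, z, h⟩
    exact ⟨ptEquiv ((w, z), p.1, p.2), h, levProj_apply w z p.1 p.2⟩

theorem exists_lift {w : Vk} (hw : w ∈ trPart H) (z : F) :
    ∃ z', uu w z' ∈ H ∧ (uu w z ∈ H → z - z' ∈ zPart H) := by
  obtain ⟨z', h'⟩ := hw
  refine ⟨z', h', fun h => ?_⟩
  have e := mul_mem h (inv_mem h')
  rw [uu_inv, uu_mul, add_neg_cancel] at e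
  have hz : fk (-w) w = 0 := by rw [← neg_one_smul F, Symplectic.f_smul_left, sympForm_self, mul_zero]
  rwa [hz, add_zero, ← sub_eq_add_neg] at e

theorem sub_mem_zPart {w : Vk} {z z' : F} (h : uu w z ∈ H) (h' : uu w z' ∈ H) : z - z' ∈ zPart H := by
  have e := mul_mem h (inv_mem h')
  rw [uu_inv, uu_mul, add_neg_cancel] at e
  have hz : fk (-w) w = 0 := by rw [← neg_one_smul F, Symplectic.f_smul_left, sympForm_self, mul_zero]
  rwa [hz, add_zero, ← sub_eq_add_neg] at e

/-- The commutator of two translations is central. -/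
theorem two_mul_form_mem {w w' : Vk} (hw : w ∈ trPart H) (hw' : w' ∈ trPart H) :
    2 * fk w w' ∈ zPart H := by
  obtain ⟨z, h⟩ := hw
  obtain ⟨z', h'⟩ := hw'
  have e1 := mul_mem h' h
  have e2 := mul_mem h h'
  rw [uu_mul] at e1 e2
  rw [add_comm w w'] at e2
  have e := sub_mem_zPart H e1 e2
  rw [sympForm_swap w w'] at e
  convert e using 1
  ring

/-- The Levi image stabilises the two parts. -/
theorem smul_mem_parts {p : Fˣ × Spk} (hp : p ∈ levPart H) :
    (∀ z ∈ zPart H, (p.1 : F) * p.1 * z ∈ zPart H) ∧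
      ∀ w ∈ trPart H, (p.1 : F) • ((p.2 : Matrix (Fin k ⊕ Fin k) (Fin k ⊕ Fin k) F) *ᵥ w) ∈ trPart H := by
  obtain ⟨w₀, z₀, h⟩ := (mem_levPart H).1 hp
  have key : ∀ w z, uu w z ∈ H → ∃ z', uu ((p.1 : F) •
      ((p.2 : Matrix (Fin k ⊕ Fin k) (Fin k ⊕ Fin k) F) *ᵥ w)) z' ∈ H ∧
      (w = 0 → z' = (p.1 : F) * p.1 * z) := by
    intro w z hwz
    have e := mul_mem (mul_mem h hwz) (inv_mem h)
    rw [_root_.mul_inv_rev, mul_assoc (uu w₀ z₀), levi_uu, ← mul_assoc (uu w₀ z₀), mul_assoc _ (levi _ _),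
      mul_inv_cancel_left, uu_inv, uu_mul, uu_mul] at e
    rw [add_neg_cancel_comm] at e
    refine ⟨_, e, fun hw => ?_⟩
    subst hw
    rw [Matrix.mulVec_zero, smul_zero, add_zero, fk_zero_left, add_zero,
      ← neg_one_smul F w₀, Symplectic.f_smul_left, sympForm_self, mul_zero, add_zero]
    ring
  refine ⟨fun z hz => ?_, fun w hw => ?_⟩
  · obtain ⟨z', h', hz'⟩ := key 0 z hz
    rw [Matrix.mulVec_zero, smul_zero, hz' rfl] at h'
    exact h'
  · obtain ⟨z, hz⟩ := hw
    obtain ⟨z', h', -⟩ := key w z hz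
    exact ⟨z', h'⟩

/-- The order of the intersection with the point stabiliser. -/
theorem natCard_inf_ptStab :
    Nat.card (H ⊓ ptStab : Subgroup Sp) = Nat.card (trPart H) * Nat.card (zPart H) * Nat.card (levPart H) := by
  set ψ := levProj.comp (H.subgroupOf ptStab).subtype with hψ
  have hK : Nat.card (H.subgroupOf (ptStab : Subgroup Sp)) = Nat.card (H ⊓ ptStab : Subgroup Sp) := by
    rw [← Subgroup.inf_subgroupOf_right H ptStab]
    exact Nat.card_congr (Subgroup.subgroupOfEquivOfLe inf_le_right).toEquiv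
  have hr : ψ.range = levPart H := by
    rw [hψ, MonoidHom.range_comp, Subgroup.range_subtype]
    rfl
  rw [← hK, ← ψ.ker.card_mul_index, Subgroup.index_ker, hr]
  congr 1
  rw [← Nat.card_prod]
  choose sec hsec using fun w : trPart H => w.2
  refine Nat.card_congr (Equiv.ofBijective (fun p : trPart H × zPart H =>
    (⟨⟨ptEquiv (((p.1 : Vk), sec p.1 + (p.2 : F)), 1, 1), ?_⟩, ?_⟩ : ψ.ker)) ⟨?_, ?_⟩).symm
  · rw [Subgroup.mem_subgroupOf, ptEquiv_apply, levi_one, mul_one]
    have := mul_mem (hsec p.1) p.2.2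
    rwa [uu_mul, fk_zero_left, add_zero, add_zero] at this
  · rw [MonoidHom.mem_ker, hψ, MonoidHom.comp_apply]
    exact levProj_apply _ _ _ _
  · intro p p' h
    have h' := congrArg (fun x : ψ.ker => ((x : H.subgroupOf ptStab) : (ptStab : Subgroup Sp))) h
    obtain ⟨hw, hz⟩ := Prod.mk.inj (congrArg Prod.fst (ptEquiv.injective h'))
    have hw' : p.1 = p'.1 := Subtype.ext hw
    rw [hw'] at hz
    exact Prod.ext hw' (Subtype.ext (add_left_cancel hz))
  · rintro ⟨⟨A, hA⟩, hker⟩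
    obtain ⟨⟨⟨w, z⟩, a, g⟩, rfl⟩ := ptEquiv.surjective A
    rw [MonoidHom.mem_ker, hψ, MonoidHom.comp_apply] at hker
    have hag : (a, g) = (1 : Fˣ × Spk) := (levProj_apply w z a g).symm.trans hker
    obtain ⟨rfl, rfl⟩ : a = 1 ∧ g = 1 := Prod.mk.inj hag
    have hwz : uu w z ∈ H := by
      have := hA
      rwa [Subgroup.mem_subgroupOf, ptEquiv_apply, levi_one, mul_one] at this
    refine ⟨(⟨w, z, hwz⟩, ⟨z - sec ⟨w, z, hwz⟩, sub_mem_zPart H hwz (hsec ⟨w, z, hwz⟩)⟩), ?_⟩
    refine Subtype.ext (Subtype.ext ?_)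
    simp

/-! ### Counting -/

variable [Fintype F]

/-- The number of points of the projective space of dimension `n - 1` over a field of order `q`. -/
def nPts (q n : ℕ) : ℕ := ∑ i ∈ Finset.range n, q ^ i

theorem nPts_add_two (q n : ℕ) : nPts q (n + 2) = q ^ 2 * nPts q n + q + 1 := by
  rw [nPts, Finset.sum_range_succ' _ (n + 1), Finset.sum_range_succ' _ n, nPts, Finset.mul_sum]
  simp [pow_add, mul_comm]
  ring_nf

theorem nPts_pos (q : ℕ) {n : ℕ} (hn : 0 < n) : 0 < nPts q n :=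
  Finset.sum_pos' (fun _ _ => Nat.zero_le _) ⟨0, Finset.mem_range.2 hn, by simp⟩

theorem index_ptStab : (ptStab : Subgroup Sp).index = nPts (Fintype.card F) (2 * (k + 1)) := by
  have := Symplectic.sp_isPretransitive (F := F) (m := k + 1)
  rw [ptStab, MulAction.index_stabilizer_of_transitive,
    Projectivization.card_of_finrank F Vec finrank_vec, Nat.card_eq_fintype_card, nPts]

theorem natCard_ptStab : Nat.card (ptStab : Subgroup Sp) =
    Fintype.card F ^ (2 * k + 1) * ((Fintype.card F - 1) * Nat.card Spk) := by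
  classical
  rw [← Nat.card_congr ptEquiv, Nat.card_prod, Nat.card_prod, Nat.card_prod, Nat.card_units,
    Nat.card_eq_fintype_card (α := F), pow_succ]
  congr 2
  rw [Nat.card_fun, Nat.card_eq_fintype_card, Nat.card_eq_fintype_card, Fintype.card_sum, Fintype.card_fin]
  ring

theorem natCard_le_nPts_mul :
    Nat.card H ≤ nPts (Fintype.card F) (2 * (k + 1)) * Nat.card (H ⊓ ptStab : Subgroup Sp) := by
  have hle : (ptStab : Subgroup Sp).relIndex H ≤ (ptStab : Subgroup Sp).relIndex ⊤ :=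
    Subgroup.relIndex_le_of_le_right le_top (by
      rw [Subgroup.relIndex_top_right, index_ptStab]
      exact (nPts_pos _ (by omega)).ne')
  rw [Subgroup.relIndex_top_right, index_ptStab] at hle
  have := (H ⊓ ptStab : Subgroup Sp).card_mul_index
  have h2 : (H ⊓ ptStab : Subgroup Sp).relIndex H * Nat.card (H ⊓ ptStab : Subgroup Sp) = Nat.card H := by
    have h3 := Subgroup.relIndex_mul_relIndex ⊥ (H ⊓ ptStab) H bot_le inf_le_left
    rw [Subgroup.relIndex_bot_left, Subgroup.relIndex_bot_left, mul_comm] at h3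
    exact h3
  rw [← h2, Subgroup.inf_relIndex_left]
  exact Nat.mul_le_mul_right _ hle

/-- The basic inequality for a subgroup larger than the point stabiliser. -/
theorem key_lt (hH : Nat.card (ptStab : Subgroup Sp) < Nat.card H) :
    Fintype.card F ^ (2 * k + 1) * ((Fintype.card F - 1) * Nat.card Spk) <
      nPts (Fintype.card F) (2 * (k + 1)) *
        (Nat.card (trPart H) * Nat.card (zPart H) * Nat.card (levPart H)) := by
  rw [← natCard_ptStab, ← natCard_inf_ptStab]
  exact hH.trans_le (natCard_le_nPts_mul H)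

end Cfsg.Agent.Classical.PSpMinIndex
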