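import Mathlib
import Cfsg.Agent.Lib.Classical.PSpMinIndex.Basic

/-!
# Root groups inside a subgroup larger than the point stabiliser

If a subgroup of order exceeding that of a point stabiliser contains the root groups of all points of a
non-degenerate subspace of codimension two, it is the whole symplectic group.
-/

set_option autoImplicit false
set_option linter.unusedSectionVars false

namespace Cfsg.Agent.Classical.PSpMinIndex

open Matrix
open scoped LinearAlgebra.Projectivization
open Cfsg.Agent.Forms.SympStd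
open Cfsg.Agent.Classical.Symplectic

variable {F : Type*} [Field F] {k : ℕ}

local notation "Vk" => (Fin k ⊕ Fin k → F)
local notation "Vec" => (Fin (k + 1) ⊕ Fin (k + 1) → F)
local notation "Mat" => Matrix (Fin (k + 1) ⊕ Fin (k + 1)) (Fin (k + 1) ⊕ Fin (k + 1)) F
local notation "Sp" => Matrix.symplecticGroup (Fin (k + 1)) F
local notation "Spk" => Matrix.symplecticGroup (Fin k) F
local notation "f" => Cfsg.sympForm (k + 1) F
local notation "fk" => Cfsg.sympForm k F

variable (H : Subgroup (Matrix.symplecticGroup (Fin (k + 1)) F))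

/-- The vectors whose whole root group lies in `H`. -/
def rootSet : Set Vec := {v | ∀ c : F, tv v c ∈ H}

theorem smul_mem_rootSet {v : Vec} (hv : v ∈ rootSet H) (a : F) : a • v ∈ rootSet H := fun c => by
  rw [Symplectic.tv_smul]
  exact hv _

theorem map_mem_rootSet {A : Sp} (hA : A ∈ H) {v : Vec} (hv : v ∈ rootSet H) :
    (A : Mat) *ᵥ v ∈ rootSet H := fun c => by
  rw [← Symplectic.tv_conj]
  exact mul_mem (mul_mem hA (hv c)) (inv_mem hA)

theorem add_smul_mem_rootSet {u v : Vec} (hu : u ∈ rootSet H) (hv : v ∈ rootSet H) (hne : f v u ≠ 0) (c : F) :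
    v + c • u ∈ rootSet H := by
  have h := map_mem_rootSet H (hu (c / f v u)) hv
  rwa [tv_mulVec, div_mul_cancel₀ _ hne] at h

theorem eq_top_of_rootSet (h : ∀ v, v ∈ rootSet H) : H = ⊤ := by
  rw [eq_top_iff, ← closure_tvSet_eq_top, Subgroup.closure_le]
  rintro A ⟨w, c, -, hA⟩
  rw [show A = tv w c from Subtype.ext hA]
  exact h w c

theorem levi_one_mem (h : ∀ w : Vk, emb w ∈ rootSet H) (g : Spk) : (levi 1 g : Sp) ∈ H := by
  let ψ : Spk →* Sp :=
    { toFun := fun g => levi 1 g
      map_one' := levi_one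
      map_mul' := fun a b => by rw [levi_mul, one_mul] }
  have hle : (⊤ : Subgroup Spk) ≤ H.comap ψ := by
    rw [← closure_tvSet_eq_top, Subgroup.closure_le]
    rintro A ⟨w, c, -, hA⟩
    rw [show A = tv w c from Subtype.ext hA]
    show levi 1 (tv w c) ∈ H
    rw [levi_one_tv]
    exact h w c
  exact hle (Subgroup.mem_top g)

/-- Conjugates of a subgroup. -/
def conjBy (A : Sp) : Subgroup (Matrix.symplecticGroup (Fin (k + 1)) F) := H.map (MulAut.conj A).toMonoidHom

theorem mem_conjBy {A B : Sp} : B ∈ conjBy H A ↔ A⁻¹ * B * A ∈ H := by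
  constructor
  · rintro ⟨C, hC, rfl⟩
    simpa [MulAut.conj_apply, mul_assoc] using hC
  · intro h
    exact ⟨_, h, by simp [MulAut.conj_apply, mul_assoc]⟩

theorem natCard_conjBy (A : Sp) : Nat.card (conjBy H A) = Nat.card H :=
  (Nat.card_congr (H.equivMapOfInjective _ (MulAut.conj A).injective).toEquiv).symm

theorem mem_rootSet_conjBy {A : Sp} {v : Vec} :
    v ∈ rootSet (conjBy H A) ↔ ((A⁻¹ : Sp) : Mat) *ᵥ v ∈ rootSet H := by
  have key : ∀ c : F, A⁻¹ * tv v c * A = tv (((A⁻¹ : Sp) : Mat) *ᵥ v) c := fun c => by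
    rw [← Symplectic.tv_conj, inv_inv]
  simp only [rootSet, Set.mem_ofPred_eq, mem_conjBy, key]

theorem conjBy_ne_top {A : Sp} (h : H ≠ ⊤) : conjBy H A ≠ ⊤ := fun e => h <| eq_top_iff.2 fun B _ => by
  have := (mem_conjBy H).1 (e ▸ Subgroup.mem_top (A * B * A⁻¹))
  simpa [mul_assoc] using this

/-! ### Orders of stabilisers -/

theorem res_eq_zero_iff {x : Vec} : res x = 0 ↔ ∀ w : Vk, f x (emb w) = 0 := by
  constructor
  · intro h w
    simp [form_eq, h]
  · intro h
    refine fk_nondeg fun w => ?_
    simpa [form_eq] using h w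

/-- The stabiliser of the first hyperbolic line. -/
def lineStab : Subgroup (Matrix.symplecticGroup (Fin (k + 1)) F) where
  carrier := {A | (∀ x, res x = 0 → res ((A : Mat) *ᵥ x) = 0) ∧
    ∀ x, res x = 0 → res (((A⁻¹ : Sp) : Mat) *ᵥ x) = 0}
  one_mem' := by constructor <;> intro x hx <;> simpa using hx
  mul_mem' {A B} hA hB := by
    constructor <;> intro x hx
    · rw [mul_mulVec_sp]; exact hA.1 _ (hB.1 _ hx)
    · rw [_root_.mul_inv_rev, mul_mulVec_sp]; exact hB.2 _ (hA.2 _ hx)
  inv_mem' {A} hA := ⟨hA.2, by simpa using hA.1⟩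

theorem lineStab_emb {A : Sp} (hA : A ∈ lineStab) (w : Vk) :
    (A : Mat) *ᵥ emb w = emb (res ((A : Mat) *ᵥ emb w)) := by
  have h : ∀ x : Vec, res x = 0 → f x ((A : Mat) *ᵥ emb w) = 0 := by
    intro x hx
    have e : (A : Mat) *ᵥ (((A⁻¹ : Sp) : Mat) *ᵥ x) = x := by rw [← mul_mulVec_sp, mul_inv_cancel]; exact one_mulVec x
    rw [← e, sympForm_mulVec, (res_eq_zero_iff.1 (hA.2 x hx)) w]
  have h1 := h eP res_eP
  have h2 := h eQ res_eQ
  rw [form_eq] at h1 h2
  simp at h1 h2
  exact vec_ext (by simpa using h2) (by simpa using h1) (by simp)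

section finite

variable [Fintype F]

theorem natCard_det_one_le : Nat.card {p : (F × F) × F × F // p.1.1 * p.2.2 - p.1.2 * p.2.1 = 1} ≤
    (Fintype.card F * Fintype.card F - 1) * Fintype.card F := by
  classical
  let φ : {p : (F × F) × F × F // p.1.1 * p.2.2 - p.1.2 * p.2.1 = 1} → {u : F × F // u ≠ 0} × F :=
    fun p => (⟨p.1.1, fun h => by simpa [h] using p.2⟩, if p.1.1.1 = 0 then p.1.2.2 else p.1.2.1)
  have hφ : Function.Injective φ := by
    rintro ⟨⟨⟨a, b⟩, c, d⟩, h⟩ ⟨⟨⟨a', b'⟩, c', d'⟩, h'⟩ e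
    simp only [φ, Prod.mk.injEq, Subtype.mk.injEq] at e
    obtain ⟨⟨rfl, rfl⟩, e⟩ := e
    simp only at h h'
    by_cases ha : a = 0
    · rw [if_pos ha, if_pos ha] at e
      subst ha
      have hb : b ≠ 0 := fun hb => by simp [hb] at h
      have : c = c' := mul_left_cancel₀ hb (by linear_combination h' - h)
      subst this e; rfl
    · rw [if_neg ha, if_neg ha] at e
      subst e
      have : d = d' := mul_left_cancel₀ ha (by linear_combination h - h')
      subst this; rfl
  refine (Nat.card_le_card_of_injective φ hφ).trans (le_of_eq ?_)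
  rw [Nat.card_prod, Nat.card_eq_fintype_card, Fintype.card_subtype_compl, Fintype.card_subtype_eq,
    Fintype.card_prod, Nat.card_eq_fintype_card]

theorem natCard_lineStab_le : Nat.card (lineStab (F := F) (k := k)) ≤
    (Fintype.card F * Fintype.card F - 1) * Fintype.card F * Nat.card Spk := by
  classical
  let g : lineStab (F := F) (k := k) → Spk := fun A =>
    ⟨LinearMap.toMatrix' (res.comp ((Matrix.toLin' ((A : Sp) : Mat)).comp emb)), mem_sp_iff.2 fun x y => by
      simp only [← Matrix.toLin'_apply, Matrix.toLin'_toMatrix', LinearMap.comp_apply]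
      simp only [Matrix.toLin'_apply]
      rw [← form_emb, ← lineStab_emb A.2, ← lineStab_emb A.2, sympForm_mulVec, form_emb]⟩
  let φ : lineStab (F := F) (k := k) →
      {p : (F × F) × F × F // p.1.1 * p.2.2 - p.1.2 * p.2.1 = 1} × Spk := fun A =>
    (⟨(((((A : Sp) : Mat) *ᵥ eP) (Sum.inr 0), (((A : Sp) : Mat) *ᵥ eP) (Sum.inl 0)),
        (((A : Sp) : Mat) *ᵥ eQ) (Sum.inr 0), (((A : Sp) : Mat) *ᵥ eQ) (Sum.inl 0)), by
      have h := sympForm_mulVec (A : Sp) eP eQ
      rw [form_eq, form_eq, A.2.1 _ res_eP] at h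
      simpa using h⟩, g A)
  have hφ : Function.Injective φ := by
    intro A B e
    simp only [φ, Prod.mk.injEq, Subtype.mk.injEq] at e
    obtain ⟨⟨⟨h1, h2⟩, h3, h4⟩, h5⟩ := e
    refine Subtype.ext (sp_ext fun x => ?_)
    have hP : ((A : Sp) : Mat) *ᵥ eP = ((B : Sp) : Mat) *ᵥ eP :=
      vec_ext h1 h2 (by rw [A.2.1 _ res_eP, B.2.1 _ res_eP])
    have hQ : ((A : Sp) : Mat) *ᵥ eQ = ((B : Sp) : Mat) *ᵥ eQ :=
      vec_ext h3 h4 (by rw [A.2.1 _ res_eQ, B.2.1 _ res_eQ])
    have hW : ∀ w : Vk, ((A : Sp) : Mat) *ᵥ emb w = ((B : Sp) : Mat) *ᵥ emb w := fun w => by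
      have := congrArg (fun M : Spk => (M : Matrix (Fin k ⊕ Fin k) (Fin k ⊕ Fin k) F) *ᵥ w) h5
      simp only [g, LinearMap.toMatrix'_mulVec, LinearMap.comp_apply, Matrix.toLin'_apply] at this
      rw [lineStab_emb A.2, lineStab_emb B.2, this]
    rw [decomp x]
    simp only [Matrix.mulVec_add, Matrix.mulVec_smul, hP, hQ, hW]
  refine (Nat.card_le_card_of_injective φ hφ).trans ?_
  rw [Nat.card_prod]
  exact Nat.mul_le_mul_right _ natCard_det_one_le

theorem two_mul_lineStab_le (hk : 1 ≤ k) (hq : 3 ≤ Fintype.card F) :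
    2 * Nat.card (lineStab (F := F) (k := k)) ≤ Nat.card (ptStab : Subgroup Sp) := by
  obtain ⟨s, hs⟩ : ∃ s, Fintype.card F = s + 1 := ⟨Fintype.card F - 1, by omega⟩
  refine (Nat.mul_le_mul_left 2 natCard_lineStab_le).trans ?_
  rw [natCard_ptStab, hs, Nat.add_sub_cancel, show (s + 1) * (s + 1) - 1 = s * (s + 2) by
    apply Nat.sub_eq_of_eq_add; ring]
  have h3 : (s + 1) ^ 3 ≤ (s + 1) ^ (2 * k + 1) := Nat.pow_le_pow_right (by omega) (by omega)
  calc 2 * (s * (s + 2) * (s + 1) * Nat.card Spk) = (2 * (s + 2) * (s + 1)) * (s * Nat.card Spk) := by ring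
    _ ≤ (s + 1) ^ (2 * k + 1) * (s * Nat.card Spk) :=
      Nat.mul_le_mul_right _ (le_trans (by
        have hs2 : 2 ≤ s := by omega
        nlinarith [Nat.mul_le_mul hs2 hs2]) h3)

theorem natCard_stabilizer_point (p : ℙ F Vec) :
    Nat.card (MulAction.stabilizer Sp p) = Nat.card (ptStab : Subgroup Sp) := by
  have := Symplectic.sp_isPretransitive (F := F) (m := k + 1)
  have h1 := (MulAction.stabilizer Sp p).card_mul_index
  have h2 := (ptStab : Subgroup Sp).card_mul_index
  rw [MulAction.index_stabilizer_of_transitive] at h1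
  rw [ptStab, MulAction.index_stabilizer_of_transitive] at h2
  have : Nonempty (ℙ F Vec) := ⟨p⟩
  have hp : Nat.card (ℙ F Vec) ≠ 0 := Nat.card_pos.ne'
  exact Nat.eq_of_mul_eq_mul_right (Nat.pos_of_ne_zero hp) (h1.trans h2.symm)

variable (hH : Nat.card (ptStab : Subgroup (Matrix.symplecticGroup (Fin (k + 1)) F)) < Nat.card H)

include hH

theorem not_fixes_point (v : Vec) (hv : v ≠ 0)
    (h : ∀ A ∈ H, ∃ a : F, (A : Mat) *ᵥ v = a • v) : False := by
  have hle : H ≤ MulAction.stabilizer Sp (Projectivization.mk F v hv) := fun A hA => by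
    rw [MulAction.mem_stabilizer_iff, Symplectic.mk_smul', Projectivization.mk_eq_mk_iff']
    obtain ⟨a, ha⟩ := h A hA
    exact ⟨a, ha.symm⟩
  have := Subgroup.card_le_of_le hle
  rw [natCard_stabilizer_point] at this
  omega

/-- The closure argument. -/
theorem eq_top_of_emb_mem (hk : 1 ≤ k) (hq : 3 ≤ Fintype.card F)
    (hsub : ∀ w : Vk, emb w ∈ rootSet H) : H = ⊤ := by
  classical
  have hlevi := levi_one_mem H hsub
  have hD : ∀ r ∈ rootSet H, res r ≠ 0 → ∀ w : Vk, w ≠ 0 → r - emb (res r) + emb w ∈ rootSet H := by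
    intro r hr hr0 w hw
    obtain ⟨g, hg⟩ := Symplectic.exists_move hr0 hw
    have := map_mem_rootSet H (hlevi g) hr
    convert this using 1
    exact vec_ext (by simp) (by simp) (by simpa using hg.symm)
  -- if a vector of the hyperbolic line is orthogonal to the root set, its point is fixed
  have hfix : ∀ l : Vec, res l = 0 → (∀ y ∈ rootSet H, f l y = 0) → ∀ y ∈ rootSet H, ∀ c : F, c ≠ 0 →
      y - emb (res y) = c • l → l ≠ 0 → False := by
    intro l hl hperp y hy c hc hyl hl0
    refine not_fixes_point H hH l hl0 fun A hA => ?_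
    have h0 : ∀ v ∈ rootSet H, f ((A : Mat) *ᵥ l) v = 0 := fun v hv => by
      have e : (A : Mat) *ᵥ (((A⁻¹ : Sp) : Mat) *ᵥ v) = v := by rw [← mul_mulVec_sp, mul_inv_cancel]; exact one_mulVec v
      rw [← e, sympForm_mulVec]
      exact hperp _ (map_mem_rootSet H (inv_mem hA) hv)
    set u := (A : Mat) *ᵥ l
    have hu : res u = 0 := res_eq_zero_iff.2 fun w => h0 _ (hsub w)
    have hul : f u l = 0 := by
      have h1 := h0 y hy
      rw [← sub_add_cancel y (emb (res y)), hyl, Symplectic.f_add_right, Symplectic.f_smul_right,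
        h0 _ (hsub _), add_zero] at h1
      exact (mul_eq_zero.1 h1).resolve_left hc
    rw [form_eq, hu, hl, fk_zero_left, add_zero] at hul
    by_cases h1 : l (Sum.inr 0) = 0
    · have h2 : l (Sum.inl 0) ≠ 0 := fun h2 => hl0 (vec_ext (by simp [h1]) (by simp [h2]) (by simp [hl]))
      rw [h1, mul_zero, sub_zero] at hul
      have h3 := (mul_eq_zero.1 hul).resolve_right h2
      exact ⟨u (Sum.inl 0) / l (Sum.inl 0),
        vec_ext (by simp [h1, h3]) (by simp [h2]) (by simp [hl, hu])⟩
    · refine ⟨u (Sum.inr 0) / l (Sum.inr 0), vec_ext (by simp [h1]) ?_ (by simp [hl, hu])⟩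
      simp only [Pi.smul_apply, smul_eq_mul]
      rw [div_mul_eq_mul_div, eq_div_iff h1]
      linear_combination -hul
  have hline : ∀ l : Vec, res l = 0 → ∀ y : Vec, f l y = f l (y - emb (res y)) := by
    intro l hl y
    rw [form_eq, form_eq]
    simp [hl]
  -- two independent directions give everything
  have hplane : ∀ l l' : Vec, res l = 0 → res l' = 0 → f l l' ≠ 0 → ∀ x : Vec, res x = 0 →
      ∃ a b : F, x = a • l + b • l' := by
    intro l l' hl hl' hne x hx
    rw [form_eq, hl, fk_zero_left, add_zero] at hne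
    set D := l (Sum.inr 0) * l' (Sum.inl 0) - l (Sum.inl 0) * l' (Sum.inr 0)
    refine ⟨(x (Sum.inr 0) * l' (Sum.inl 0) - x (Sum.inl 0) * l' (Sum.inr 0)) / D,
      (l (Sum.inr 0) * x (Sum.inl 0) - l (Sum.inl 0) * x (Sum.inr 0)) / D, vec_ext ?_ ?_ (by simp [hl, hl', hx])⟩
    all_goals
      simp only [Pi.add_apply, Pi.smul_apply, smul_eq_mul]
      field_simp
      ring
  by_cases hmix : ∃ r ∈ rootSet H, res r ≠ 0 ∧ r - emb (res r) ≠ 0
  · obtain ⟨r, hr, hr0, hrl⟩ := hmix
    set l := r - emb (res r) with hldef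
    have hl : res l = 0 := by simp [hldef]
    by_cases hperp : ∀ y ∈ rootSet H, f l y = 0
    · exact (hfix l hl hperp r hr 1 one_ne_zero (by rw [one_smul]) hrl).elim
    push Not at hperp
    obtain ⟨r', hr', hne⟩ := hperp
    rw [hline l hl] at hne
    set l' := r' - emb (res r') with hl'def
    have hl' : res l' = 0 := by simp [hl'def]
    -- every combination `l + s • l'` is again such a direction
    have hs : ∀ s : F, ∀ w : Vk, w ≠ 0 → l + s • l' + emb w ∈ rootSet H := by
      intro s w hw
      suffices h : ∃ y ∈ rootSet H, res y ≠ 0 ∧ y - emb (res y) = l + s • l' by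
        obtain ⟨y, hy, hy0, hyl⟩ := h
        rw [← hyl]
        exact hD y hy hy0 w hw
      by_cases hr'0 : res r' = 0
      · have hr'l : l' = r' := by simp [hl'def, hr'0]
        refine ⟨r + s • l', ?_, by simpa [hl'] using hr0, by simp [hldef, hr'l, hr'0]; abel⟩
        refine add_smul_mem_rootSet H (hr'l.symm ▸ hr') hr ?_ s
        rw [sympForm_swap l' r, neg_ne_zero, hline l' hl' r, ← hldef, sympForm_swap l l', neg_ne_zero]
        exact hne
      · obtain ⟨t, ht, hts⟩ : ∃ t : F, t ≠ 0 ∧ t ≠ -s := by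
          by_contra hc
          push Not at hc
          have hle : (Finset.univ : Finset F).card ≤ ({0, -s} : Finset F).card :=
            Finset.card_le_card fun t _ => by
              by_cases ht : t = 0
              · simp [ht]
              · simp [hc t ht]
          have := hle.trans (Finset.card_le_two)
          rw [Finset.card_univ] at this
          omega
        refine ⟨l + emb (t • res r') + s • r', add_smul_mem_rootSet H hr' (hD r hr hr0 _ (smul_ne_zero ht hr'0)) ?_ s,
          ?_, ?_⟩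
        · rw [Symplectic.f_add_left, hline l hl r', ← hl'def, map_smul, Symplectic.f_smul_left,
            show f (emb (res r')) r' = 0 by simp [form_eq, sympForm_self], mul_zero, add_zero]
          exact hne
        · simp only [map_add, map_smul, hl, res_emb, zero_add, ← add_smul]
          exact smul_ne_zero (fun h => hts (eq_neg_of_add_eq_zero_left h)) hr'0
        · rw [hl'def]
          simp only [map_add, map_smul, hl, res_emb, zero_add]
          module
    have hne' : f l l' ≠ 0 := hne
    have hgood : ∀ (a b : F) (w : Vk), a ≠ 0 → w ≠ 0 → a • l + b • l' + emb w ∈ rootSet H := by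
      intro a b w ha hw
      have := smul_mem_rootSet H (hs (b / a) (a⁻¹ • w) (smul_ne_zero (inv_ne_zero ha) hw)) a
      convert this using 1
      rw [map_smul, smul_add, smul_add, smul_smul, smul_smul, mul_div_cancel₀ _ ha, mul_inv_cancel₀ ha, one_smul]
    obtain ⟨u, hu⟩ : ∃ u : Vk, u ≠ 0 := ⟨_, hr0⟩
    have hfl : f l' l ≠ 0 := by rw [sympForm_swap, neg_ne_zero]; exact hne'
    have key : ∀ (x d : Vec), f x d ≠ 0 → (∃ c : F, c ≠ 0 ∧ d + emb u ∈ rootSet H ∧
        x + c • (d + emb u) ∈ rootSet H) → res x = 0 → x ∈ rootSet H := by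
      rintro x d hxd ⟨c, hc, hd, hxc⟩ hx
      have h1 : f x (d + emb u) = f x d := by
        rw [Symplectic.f_add_right, res_eq_zero_iff.1 hx, add_zero]
      have h2 := add_smul_mem_rootSet H hd hxc (by
        rw [Symplectic.f_add_left, Symplectic.f_smul_left, sympForm_self, mul_zero, add_zero, h1]
        exact hxd) (-c)
      rwa [add_assoc, ← add_smul, add_neg_cancel, zero_smul, add_zero] at h2
    have hL : ∀ x : Vec, res x = 0 → x ∈ rootSet H := by
      intro x hx
      obtain ⟨a, b, rfl⟩ := hplane l l' hl hl' hne' x hx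
      obtain ⟨c, hc, hca⟩ : ∃ c : F, c ≠ 0 ∧ c + a ≠ 0 := by
        by_contra hc
        push Not at hc
        have hle : (Finset.univ : Finset F).card ≤ ({0, -a} : Finset F).card :=
          Finset.card_le_card fun t _ => by
            by_cases ht : t = 0
            · simp [ht]
            · simp [eq_neg_of_add_eq_zero_left (hc t ht)]
        have := hle.trans Finset.card_le_two
        rw [Finset.card_univ] at this
        omega
      by_cases hb : b = 0
      · subst hb
        by_cases ha : a = 0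
        · subst ha
          simpa using smul_mem_rootSet H hr 0
        refine key _ (l + l') ?_ ⟨c, hc, by simpa using hgood 1 1 u one_ne_zero hu, ?_⟩ hx
        · simp only [zero_smul, add_zero, Symplectic.f_smul_left, Symplectic.f_add_right, sympForm_self,
            mul_zero, zero_add]
          exact mul_ne_zero ha hne'
        · convert hgood (c + a) c (c • u) hca (smul_ne_zero hc hu) using 1
          rw [map_smul]
          module
      · refine key _ l ?_ ⟨c, hc, by simpa using hgood 1 0 u one_ne_zero hu, ?_⟩ hx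
        · simp only [Symplectic.f_add_left, Symplectic.f_smul_left, sympForm_self, mul_zero, zero_add]
          exact mul_ne_zero hb hfl
        · convert hgood (c + a) b (c • u) hca (smul_ne_zero hc hu) using 1
          rw [map_smul]
          module
    refine eq_top_of_rootSet H fun v => ?_
    by_cases hv : res v = 0
    · exact hL v hv
    obtain ⟨a, b, hab⟩ := hplane l l' hl hl' hne' (v - emb (res v)) (by simp)
    have hv' : v = a • l + b • l' + emb (res v) := by rw [← hab, sub_add_cancel]
    rw [hv']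
    by_cases ha : a = 0
    · subst ha
      by_cases hb : b = 0
      · subst hb
        simpa using hsub (res v)
      have h1 := hgood 1 b (res v) one_ne_zero hv
      have h2 := add_smul_mem_rootSet H (hL l hl) h1 (by
        rw [Symplectic.f_add_left, Symplectic.f_add_left, Symplectic.f_smul_left, Symplectic.f_smul_left,
          sympForm_self, mul_zero, zero_add,
          show f (emb (res v)) l = 0 by rw [sympForm_swap l (emb (res v)), res_eq_zero_iff.1 hl, neg_zero],
          add_zero]
        exact mul_ne_zero hb hfl) (-1)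
      convert h2 using 1
      module
    · exact hgood a b _ ha hv
  · push Not at hmix
    by_cases hpair : ∃ l₁ ∈ rootSet H, ∃ l₂ ∈ rootSet H, res l₁ = 0 ∧ res l₂ = 0 ∧ f l₁ l₂ ≠ 0
    · obtain ⟨l₁, h₁, l₂, h₂, hl₁, hl₂, hne⟩ := hpair
      have hL : ∀ x : Vec, res x = 0 → x ∈ rootSet H := by
        intro x hx
        obtain ⟨a, b, rfl⟩ := hplane l₁ l₂ hl₁ hl₂ hne x hx
        by_cases hb : b = 0
        · simpa [hb] using smul_mem_rootSet H h₁ a
        have h := smul_mem_rootSet H (add_smul_mem_rootSet H h₁ h₂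
          (by rw [sympForm_swap, neg_ne_zero]; exact hne) (a / b)) b
        convert h using 1
        rw [smul_add, smul_smul, mul_div_cancel₀ _ hb]
        exact add_comm _ _
      -- an element of `H` preserves or exchanges the line and its complement
      have hsw : ∀ A ∈ H, A ∉ (lineStab (F := F) (k := k)) →
          (∀ x : Vec, res x = 0 → (A : Mat) *ᵥ x = emb (res ((A : Mat) *ᵥ x))) ∧
          ∀ w : Vk, res ((A : Mat) *ᵥ emb w) = 0 := by
        have hfwd : ∀ A ∈ H, (∃ x₀ : Vec, res x₀ = 0 ∧ res ((A : Mat) *ᵥ x₀) ≠ 0) →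
            (∀ x : Vec, res x = 0 → (A : Mat) *ᵥ x = emb (res ((A : Mat) *ᵥ x))) ∧
            ∀ w : Vk, res ((A : Mat) *ᵥ emb w) = 0 := by
          rintro A hA ⟨x₀, hx₀, hA₀⟩
          have h0 : (A : Mat) *ᵥ x₀ = emb (res ((A : Mat) *ᵥ x₀)) :=
            sub_eq_zero.1 (hmix _ (map_mem_rootSet H hA (hL _ hx₀)) hA₀)
          have h1 : ∀ x : Vec, res x = 0 → (A : Mat) *ᵥ x = emb (res ((A : Mat) *ᵥ x)) := by
            intro x hx
            by_cases hx1 : res ((A : Mat) *ᵥ x) = 0
            · have h2 := sub_eq_zero.1 (hmix _ (map_mem_rootSet H hA (hL (x + x₀) (by simp [hx, hx₀])))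
                (by simpa [Matrix.mulVec_add, hx1] using hA₀))
              rw [Matrix.mulVec_add, map_add, hx1, zero_add, ← h0, add_eq_right] at h2
              simp [h2]
            · exact sub_eq_zero.1 (hmix _ (map_mem_rootSet H hA (hL _ hx)) hx1)
          refine ⟨h1, fun w => ?_⟩
          by_contra hw
          have hw0 : (A : Mat) *ᵥ emb w = emb (res ((A : Mat) *ᵥ emb w)) :=
            sub_eq_zero.1 (hmix _ (map_mem_rootSet H hA (hsub w)) hw)
          have hall : ∀ w' : Vk, (A : Mat) *ᵥ emb w' = emb (res ((A : Mat) *ᵥ emb w')) := by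
            intro w'
            by_cases hx1 : res ((A : Mat) *ᵥ emb w') = 0
            · have h2 := sub_eq_zero.1 (hmix _ (map_mem_rootSet H hA (hsub (w' + w)))
                (by simpa [Matrix.mulVec_add, hx1] using hw))
              rw [map_add, Matrix.mulVec_add, map_add, hx1, zero_add, ← hw0, add_eq_right] at h2
              simp [h2]
            · exact sub_eq_zero.1 (hmix _ (map_mem_rootSet H hA (hsub _)) hx1)
          have e : (A : Mat) *ᵥ (((A⁻¹ : Sp) : Mat) *ᵥ eP) = eP := by
            rw [← mul_mulVec_sp, mul_inv_cancel]; exact one_mulVec _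
          set y := ((A⁻¹ : Sp) : Mat) *ᵥ eP
          have : (A : Mat) *ᵥ y = emb (res ((A : Mat) *ᵥ y)) := by
            rw [decomp y]
            simp only [Matrix.mulVec_add, Matrix.mulVec_smul, map_add, map_smul]
            rw [h1 eP res_eP, h1 eQ res_eQ, hall]
            simp only [res_emb]
          rw [e] at this
          simpa using congrFun this (Sum.inr 0)
        intro A hA hnot
        by_cases h1 : ∃ x₀ : Vec, res x₀ = 0 ∧ res ((A : Mat) *ᵥ x₀) ≠ 0
        · exact hfwd A hA h1
        push Not at h1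
        exfalso
        apply hnot
        refine ⟨h1, fun x hx => ?_⟩
        by_contra hx1
        obtain ⟨hi, -⟩ := hfwd A⁻¹ (inv_mem hA) ⟨x, hx, hx1⟩
        have h2 := hi _ (h1 eP res_eP)
        rw [← mul_mulVec_sp, inv_mul_cancel] at h2
        simpa using congrFun ((one_mulVec (eP : Vec)).symm.trans h2) (Sum.inr 0)
      have h2le : Nat.card H ≤ 2 * Nat.card (lineStab (F := F) (k := k)) := by
        by_cases hall : H ≤ lineStab
        · have := Subgroup.card_le_of_le hall
          omega
        obtain ⟨B, hB, hBn⟩ := SetLike.not_le_iff_exists.1 hall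
        have hmove : ∀ A ∈ H, A ∉ (lineStab (F := F) (k := k)) → B⁻¹ * A ∈ (lineStab (F := F) (k := k)) := by
          intro A hA hAn
          obtain ⟨hA1, -⟩ := hsw A hA hAn
          obtain ⟨hB1, -⟩ := hsw B hB hBn
          obtain ⟨-, hA2⟩ := hsw A⁻¹ (inv_mem hA) (fun h => hAn (by simpa using inv_mem h))
          obtain ⟨-, hB2⟩ := hsw B⁻¹ (inv_mem hB) (fun h => hBn (by simpa using inv_mem h))
          constructor
          · intro x hx
            rw [mul_mulVec_sp, hA1 x hx]
            exact hB2 _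
          · intro x hx
            rw [_root_.mul_inv_rev, inv_inv, mul_mulVec_sp, hB1 x hx]
            exact hA2 _
        let φ : H → Bool × (lineStab (F := F) (k := k)) := fun A =>
          if h : (A : Sp) ∈ (lineStab (F := F) (k := k)) then (false, ⟨A, h⟩)
          else (true, ⟨B⁻¹ * A, hmove A A.2 h⟩)
        have hφ : Function.Injective φ := by
          intro A A' e
          simp only [φ] at e
          split_ifs at e with ha ha'
          · exact Subtype.ext (congrArg Subtype.val (Prod.mk.inj e).2 : _)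
          · exact absurd (Prod.mk.inj e).1 Bool.false_ne_true
          · exact absurd (Prod.mk.inj e).1.symm Bool.false_ne_true
          · exact Subtype.ext (mul_left_cancel (congrArg Subtype.val (Prod.mk.inj e).2))
        have := Nat.card_le_card_of_injective φ hφ
        rwa [Nat.card_prod, Nat.card_eq_fintype_card (α := Bool), Fintype.card_bool] at this
      have := two_mul_lineStab_le (F := F) hk hq
      omega
    · push Not at hpair
      by_cases hline' : ∃ l ∈ rootSet H, res l = 0 ∧ l ≠ 0
      · obtain ⟨l, hl, hl0, hlne⟩ := hline'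
        refine (hfix l hl0 (fun y hy => ?_) l hl 1 one_ne_zero (by simp [hl0]) hlne).elim
        by_cases hy0 : res y = 0
        · exact hpair l hl y hy hl0 hy0
        · rw [← sub_add_cancel y (emb (res y)), hmix y hy hy0, zero_add, res_eq_zero_iff.1 hl0]
      · push Not at hline'
        have hle : H ≤ lineStab := fun A hA => by
          have h1 : ∀ B ∈ H, ∀ x : Vec, res x = 0 → res ((B : Mat) *ᵥ x) = 0 := by
            intro B hB x hx
            refine res_eq_zero_iff.2 fun w => ?_
            have hy := map_mem_rootSet H (inv_mem hB) (hsub w)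
            have e : (B : Mat) *ᵥ (((B⁻¹ : Sp) : Mat) *ᵥ emb w) = emb w := by
              rw [← mul_mulVec_sp, mul_inv_cancel]; exact one_mulVec _
            rw [← e, sympForm_mulVec]
            set y := ((B⁻¹ : Sp) : Mat) *ᵥ emb w
            by_cases hy0 : res y = 0
            · rw [hline' y hy hy0, ← sympB_apply, map_zero]
            · rw [← sub_add_cancel y (emb (res y)), hmix y hy hy0, zero_add, res_eq_zero_iff.1 hx]
          exact ⟨h1 A hA, h1 _ (inv_mem hA)⟩
        have := Subgroup.card_le_of_le hle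
        have := two_mul_lineStab_le (F := F) hk hq
        omega

end finite

section two

variable [Fintype F]

local notation "V₁" => (Fin 1 ⊕ Fin 1 → F)
local notation "V₂" => (Fin (1 + 1) ⊕ Fin (1 + 1) → F)
local notation "M₂" => Matrix (Fin (1 + 1) ⊕ Fin (1 + 1)) (Fin (1 + 1) ⊕ Fin (1 + 1)) F
local notation "Sp₂" => Matrix.symplecticGroup (Fin (1 + 1)) F
local notation "f₂" => Cfsg.sympForm (1 + 1) F

/-- In dimension four a single root group suffices. -/
theorem eq_top_of_root (H : Subgroup (Matrix.symplecticGroup (Fin (1 + 1)) F))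
    (hH : Nat.card (ptStab : Subgroup Sp₂) < Nat.card H) (hq : 3 ≤ Fintype.card F)
    {v : V₂} (hv0 : v ≠ 0) (hv : v ∈ rootSet H) : H = ⊤ := by
  classical
  set u₀ : V₁ := Pi.single (Sum.inr 0) 1 with hu₀
  set v₀ : V₁ := Pi.single (Sum.inl 0) 1 with hv₀
  have huv : Cfsg.sympForm 1 F u₀ v₀ = 1 := by rw [hu₀, hv₀, sympForm_inr_inl, if_pos rfl]
  have hspan : ∀ w : V₁, w = w (Sum.inr 0) • u₀ + w (Sum.inl 0) • v₀ := by
    intro w
    ext (i | i) <;> obtain rfl := Subsingleton.elim i 0 <;> simp [hu₀, hv₀]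
  by_contra hne
  by_cases hpair : ∃ r₁ ∈ rootSet H, ∃ r₂ ∈ rootSet H, f₂ r₁ r₂ ≠ 0
  · obtain ⟨r₁, h₁, r₂, h₂, hf⟩ := hpair
    obtain ⟨A, -, hAu, hAv⟩ := exists_move_pair (S := ∅) (u := emb u₀) (v := emb v₀) (u' := r₁)
      (v' := (f₂ r₁ r₂)⁻¹ • r₂) (by simp) (by simp) (by simp) (by simp) (by rw [form_emb, huv])
      (by rw [Symplectic.f_smul_right, inv_mul_cancel₀ hf])
    refine conjBy_ne_top H hne (eq_top_of_emb_mem (conjBy H A⁻¹) (by rw [natCard_conjBy]; exact hH) le_rfl hq
      fun w => ?_)
    rw [mem_rootSet_conjBy, inv_inv, hspan w, map_add, map_smul, map_smul, Matrix.mulVec_add,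
      Matrix.mulVec_smul, Matrix.mulVec_smul, hAu, hAv, smul_smul]
    generalize w (Sum.inr 0) = a
    generalize w (Sum.inl 0) * (f₂ r₁ r₂)⁻¹ = b
    by_cases hb : b = 0
    · simpa [hb] using smul_mem_rootSet H h₁ a
    have h := smul_mem_rootSet H (add_smul_mem_rootSet H h₁ h₂ (by rw [sympForm_swap, neg_ne_zero]; exact hf)
      (a / b)) b
    rw [smul_add, smul_smul, mul_div_cancel₀ _ hb] at h
    rwa [add_comm (a • r₁)]
  push Not at hpair
  by_cases hone : ∀ r ∈ rootSet H, ∃ a : F, r = a • v
  · refine not_fixes_point H hH v hv0 fun A hA => ?_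
    exact hone _ (map_mem_rootSet H hA hv)
  push Not at hone
  obtain ⟨r, hr, hrv⟩ := hone
  have hli : LinearIndependent F ![v, r] := by
    rw [LinearIndependent.pair_iff' hv0]
    exact fun a ha => hrv a ha.symm
  have hli' : LinearIndependent F ![(eP : V₂), emb u₀] := by
    rw [LinearIndependent.pair_iff' eP_ne_zero]
    intro a ha
    have h1 := congrFun (congrArg res ha) (Sum.inr 0)
    simp [hu₀] at h1
  obtain ⟨A, hA1, hA2⟩ := Symplectic.exists_map_pair hli' hli
    (by rw [hpair v hv r hr, form_eq]; simp)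
  set H' := conjBy H A⁻¹ with hH'
  have hH'c : Nat.card (ptStab : Subgroup Sp₂) < Nat.card H' := by rw [hH', natCard_conjBy]; exact hH
  have hmem : ∀ y, y ∈ rootSet H' ↔ (A : M₂) *ᵥ y ∈ rootSet H := fun y => by
    rw [hH', mem_rootSet_conjBy, inv_inv]
  have hM : ∀ y ∈ rootSet H', y (Sum.inl 0) = 0 ∧ res y (Sum.inl 0) = 0 := by
    intro y hy
    have e1 := hpair v hv _ ((hmem y).1 hy)
    have e2 := hpair r hr _ ((hmem y).1 hy)
    rw [← hA1, sympForm_mulVec] at e1
    rw [← hA2, sympForm_mulVec] at e2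
    rw [form_eq] at e1 e2
    simp [hu₀, sympForm_eq] at e1 e2
    exact ⟨e1, e2⟩
  have heP : (eP : V₂) ∈ rootSet H' := (hmem _).2 (by rw [hA1]; exact hv)
  have hemb : emb u₀ ∈ rootSet H' := (hmem _).2 (by rw [hA2]; exact hr)
  -- the orbit of the first point
  set p₀ := Projectivization.mk F (eP : V₂) eP_ne_zero with hp₀
  have horb : Nat.card (MulAction.orbit H' p₀) ≤ Fintype.card F + 1 := by
    let φ : MulAction.orbit H' p₀ → Option F := fun p =>
      if res p.1.rep (Sum.inr 0) = 0 then none else some (p.1.rep (Sum.inr 0) / res p.1.rep (Sum.inr 0))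
    have hrep : ∀ p : MulAction.orbit H' p₀, p.1.rep (Sum.inl 0) = 0 ∧ res p.1.rep (Sum.inl 0) = 0 := by
      intro p
      obtain ⟨⟨B, hB⟩, hp⟩ := p.2
      have hp' : p.1 = Projectivization.mk F ((B : M₂) *ᵥ eP) ((smul_ne_zero_iff_ne B).2 eP_ne_zero) := hp.symm
      obtain ⟨c, hc⟩ := Projectivization.exists_smul_eq_mk_rep F ((B : M₂) *ᵥ eP)
        ((smul_ne_zero_iff_ne B).2 eP_ne_zero)
      rw [hp', ← hc, Units.smul_def]
      exact hM _ (smul_mem_rootSet H' (map_mem_rootSet H' hB heP) _)
    have hφ : Function.Injective φ := by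
      intro p p' e
      refine Subtype.ext ?_
      rw [← p.1.mk_rep, ← p'.1.mk_rep, Projectivization.mk_eq_mk_iff']
      obtain ⟨h1, h2⟩ := hrep p
      obtain ⟨h1', h2'⟩ := hrep p'
      have hext : ∀ {x y : V₂}, x (Sum.inr 0) = y (Sum.inr 0) → x (Sum.inl 0) = y (Sum.inl 0) →
          res x (Sum.inr 0) = res y (Sum.inr 0) → res x (Sum.inl 0) = res y (Sum.inl 0) → x = y := by
        intro x y a b c d
        exact vec_ext a b (by rw [hspan (res x), hspan (res y), c, d])
      simp only [φ] at e
      by_cases ha : res p.1.rep (Sum.inr 0) = 0 <;> by_cases ha' : res p'.1.rep (Sum.inr 0) = 0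
      · have hx : p'.1.rep (Sum.inr 0) ≠ 0 := fun h0 => p'.1.rep_nonzero
          (hext (by simp [h0]) (by simp [h1']) (by simp [ha']) (by simp [h2']))
        refine ⟨p.1.rep (Sum.inr 0) / p'.1.rep (Sum.inr 0), hext ?_ ?_ ?_ ?_⟩ <;>
          simp [ha, ha', h1, h1', h2, h2', hx]
      · simp [ha, ha'] at e
      · simp [ha, ha'] at e
      · rw [if_neg ha, if_neg ha'] at e
        have e' := Option.some.inj e
        refine ⟨res p.1.rep (Sum.inr 0) / res p'.1.rep (Sum.inr 0), hext ?_ ?_ ?_ ?_⟩
        · simp only [Pi.smul_apply, smul_eq_mul]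
          field_simp at e'
          field_simp
          linear_combination -e'
        all_goals simp [h1, h1', h2, h2', ha']
    refine (Nat.card_le_card_of_injective φ hφ).trans (le_of_eq ?_)
    rw [Nat.card_eq_fintype_card, Fintype.card_option]
  -- its stabiliser
  set q₀ := Projectivization.mk F u₀ (fun h => by rw [h] at huv; simp [sympForm_eq] at huv) with hq₀
  have hst : Nat.card (MulAction.stabilizer H' p₀) ≤
      Fintype.card F ^ 3 * ((Fintype.card F - 1) * Nat.card (MulAction.stabilizer
        (Matrix.symplecticGroup (Fin 1) F) q₀)) := by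
    have hdec : ∀ B : MulAction.stabilizer H' p₀, ((B : H') : Sp₂) ∈ (ptStab : Subgroup Sp₂) := fun B => B.2
    have hlev : ∀ (B : MulAction.stabilizer H' p₀),
        (ptEquiv.symm ⟨_, hdec B⟩).2.2 ∈ MulAction.stabilizer (Matrix.symplecticGroup (Fin 1) F) q₀ := by
      intro B
      obtain ⟨⟨⟨w, z⟩, a, g⟩, he⟩ := ptEquiv.surjective (⟨_, hdec B⟩ : (ptStab : Subgroup Sp₂))
      rw [← he, Equiv.symm_apply_apply]
      have hB : ((B : H') : Sp₂) = uu w z * levi a g := (congrArg Subtype.val he).symm
      have h2 := (hM _ (map_mem_rootSet H' (B : H').2 hemb)).2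
      rw [hB, mul_mulVec_sp] at h2
      simp [-Matrix.mulVec_mulVec] at h2
      show g • q₀ = q₀
      rw [hq₀, Symplectic.mk_smul', Projectivization.mk_eq_mk_iff']
      refine ⟨((g : Matrix (Fin 1 ⊕ Fin 1) (Fin 1 ⊕ Fin 1) F) *ᵥ u₀) (Sum.inr 0), ?_⟩
      conv_rhs => rw [hspan ((g : Matrix (Fin 1 ⊕ Fin 1) (Fin 1 ⊕ Fin 1) F) *ᵥ u₀)]
      rw [h2, zero_smul, add_zero]
    let φ : MulAction.stabilizer H' p₀ → (V₁ × F) × Fˣ ×
        MulAction.stabilizer (Matrix.symplecticGroup (Fin 1) F) q₀ := fun B =>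
      ((ptEquiv.symm ⟨_, hdec B⟩).1, (ptEquiv.symm ⟨_, hdec B⟩).2.1, ⟨_, hlev B⟩)
    have hφ : Function.Injective φ := fun B B' e => by
      simp only [φ, Prod.mk.injEq, Subtype.mk.injEq] at e
      obtain ⟨e1, e2, e3⟩ := e
      have := ptEquiv.symm.injective (Prod.ext e1 (Prod.ext e2 e3))
      exact Subtype.ext (Subtype.ext (congrArg Subtype.val this :))
    refine (Nat.card_le_card_of_injective φ hφ).trans (le_of_eq ?_)
    rw [Nat.card_prod, Nat.card_prod, Nat.card_prod, Nat.card_units, Nat.card_fun,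
      Nat.card_eq_fintype_card (α := F), Nat.card_eq_fintype_card (α := Fin 1 ⊕ Fin 1), Fintype.card_sum,
      Fintype.card_fin, pow_succ (Fintype.card F) 2]
  have hsub : Nat.card (MulAction.stabilizer (Matrix.symplecticGroup (Fin 1) F) q₀) * (Fintype.card F + 1) =
      Nat.card (Matrix.symplecticGroup (Fin 1) F) := by
    have h1 := (MulAction.stabilizer (Matrix.symplecticGroup (Fin 1) F) q₀).card_mul_index
    have := Symplectic.sp_isPretransitive (F := F) (m := 1)
    rw [MulAction.index_stabilizer_of_transitive, Projectivization.card_of_finrank F V₁ finrank_vec,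
      Nat.card_eq_fintype_card (α := F)] at h1
    simpa [Finset.sum_range_succ, add_comm] using h1
  have hle : Nat.card H' ≤ Nat.card (ptStab : Subgroup Sp₂) := by
    rw [← Nat.card_congr (MulAction.orbitProdStabilizerEquivGroup H' p₀), Nat.card_prod, natCard_ptStab,
      ← hsub]
    refine (Nat.mul_le_mul horb hst).trans (le_of_eq ?_)
    ring
  omega

end two


end Cfsg.Agent.Classical.PSpMinIndex
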