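import Mathlib
import Cfsg.Agent.Lib.Classical.PSpMinIndex.Closure

/-!
# Bounds and liftings for the invariants of a subgroup
-/

set_option autoImplicit false
set_option linter.unusedSectionVars false

namespace Cfsg.Agent.Classical.PSpMinIndex

open Matrix
open Cfsg.Agent.Forms.SympStd
open Cfsg.Agent.Classical.Symplectic

/-! ### The scalars preserving an additive subgroup -/

section scalars

variable {F : Type*} [Field F] [Finite F] {M : Type*} [AddCommGroup M] [Module F M]

/-- The scalars preserving `X`. -/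
def scalarStab (X : AddSubgroup M) : Subfield F where
  carrier := {d | ∀ x ∈ X, d • x ∈ X}
  one_mem' x hx := by simpa using hx
  mul_mem' {a b} ha hb x hx := by rw [mul_smul]; exact ha _ (hb _ hx)
  zero_mem' x hx := by simp
  add_mem' {a b} ha hb x hx := by rw [add_smul]; exact add_mem (ha _ hx) (hb _ hx)
  neg_mem' {a} ha x hx := by rw [neg_smul]; exact neg_mem (ha _ hx)
  inv_mem' a ha := by
    intro x hx
    by_cases h0 : a = 0
    · simp [h0]
    have : Fintype F := Fintype.ofFinite F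
    have hpow : ∀ n : ℕ, a ^ n • x ∈ X := by
      intro n
      induction n with
      | zero => simpa using hx
      | succ n ih => rw [pow_succ', mul_smul]; exact ha _ ih
    have h1 : a * a ^ (Fintype.card F - 2) = 1 := by
      have h2 := Fintype.one_lt_card (α := F)
      rw [← pow_succ', show Fintype.card F - 2 + 1 = Fintype.card F - 1 by omega]
      exact FiniteField.pow_card_sub_one_eq_one a h0
    rw [inv_eq_of_mul_eq_one_right h1]
    exact hpow _

theorem mem_scalarStab {X : AddSubgroup M} {d : F} : d ∈ scalarStab X ↔ ∀ x ∈ X, d • x ∈ X := Iff.rfl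

theorem card_scalarStab_mul_le [Finite M] {X : AddSubgroup M} (hX : X ≠ ⊤) :
    Nat.card (scalarStab (F := F) X) * Nat.card X ≤ Nat.card M := by
  obtain ⟨v, hv⟩ : ∃ v, v ∉ X := by
    by_contra h
    push Not at h
    exact hX (eq_top_iff.2 fun x _ => h x)
  rw [← Nat.card_prod]
  refine Nat.card_le_card_of_injective (fun p : scalarStab (F := F) X × X => (p.1 : F) • v + (p.2 : M)) ?_
  rintro ⟨d, x⟩ ⟨d', x'⟩ h
  simp only at h
  have h1 : ((d : F) - d') • v = (x' : M) - x := by
    rw [sub_smul, sub_eq_sub_iff_add_eq_add, h]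
    abel
  by_cases hd : d = d'
  · subst hd
    exact Prod.ext rfl (Subtype.ext (add_left_cancel h))
  · exfalso
    apply hv
    have hne : (d : F) - d' ≠ 0 := sub_ne_zero.2 fun e => hd (Subtype.ext e)
    rw [← one_smul F v, ← inv_mul_cancel₀ hne, mul_smul, h1]
    exact ((scalarStab (F := F) X).inv_mem ((scalarStab (F := F) X).sub_mem d.2 d'.2)) _
      (sub_mem x'.2 x.2)

theorem two_le_card_scalarStab (X : AddSubgroup M) : 2 ≤ Nat.card (scalarStab (F := F) X) :=
  Finite.one_lt_card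

theorem card_scalarStab_sq_le (X : AddSubgroup M) (h : scalarStab (F := F) X ≠ ⊤) :
    Nat.card (scalarStab (F := F) X) * Nat.card (scalarStab (F := F) X) ≤ Nat.card F := by
  have hne : (scalarStab (F := F) X).toAddSubgroup ≠ ⊤ := fun e => h (eq_top_iff.2 fun a _ =>
    (show a ∈ (scalarStab (F := F) X).toAddSubgroup from e ▸ AddSubgroup.mem_top a))
  refine le_trans (Nat.mul_le_mul_right _ ?_)
    (card_scalarStab_mul_le (F := F) (M := F) (X := (scalarStab (F := F) X).toAddSubgroup) hne)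
  refine Nat.card_le_card_of_injective (fun d => ⟨(d : F), fun x hx => ?_⟩) ?_
  · exact (scalarStab (F := F) X).mul_mem d.2 hx
  · intro a b h
    exact Subtype.ext (congrArg Subtype.val h : _)

/-- Scalars whose square lies in a subfield. -/
theorem card_le_of_sq_mem (D : Subfield F) (A : Subgroup Fˣ) (hA : ∀ a ∈ A, (a : F) * a ∈ D) :
    Nat.card A ≤ 2 * (Nat.card D - 1) ∧ ((2 : F) = 0 → Nat.card A ≤ Nat.card D - 1) := by
  classical
  let φ : A →* Dˣ :=
    { toFun := fun a => Units.mk0 ⟨(a : Fˣ) * (a : Fˣ), hA a a.2⟩ (fun h => by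
        simpa [Subtype.ext_iff] using h)
      map_one' := by ext; simp
      map_mul' := fun a b => by
        refine Units.ext (Subtype.ext ?_)
        simp only [Units.val_mk0, Subgroup.coe_mul, Units.val_mul, MulMemClass.coe_mul]
        ring }
  have hk : ∀ a : A, φ a = 1 → ((a : Fˣ) : F) = 1 ∨ ((a : Fˣ) : F) = -1 := fun a h => by
    have h1 := congrArg (fun u : Dˣ => ((u : D) : F)) h
    simpa [φ, mul_self_eq_one_iff] using h1
  have hker : Nat.card φ.ker ≤ 2 := by
    let g : φ.ker → ({1, -1} : Finset F) := fun a => ⟨(((a : A) : Fˣ) : F), by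
      rcases hk a a.2 with h | h <;> simp [h]⟩
    have hg : Function.Injective g := fun a b e =>
      Subtype.ext (Subtype.ext (Units.ext (congrArg Subtype.val e : _)))
    refine (Nat.card_le_card_of_injective g hg).trans ?_
    rw [Nat.card_eq_finsetCard]
    exact Finset.card_le_two
  have hcard : Nat.card Dˣ = Nat.card D - 1 := Nat.card_units D
  refine ⟨?_, fun h2 => ?_⟩
  · rw [← φ.ker.card_mul_index, Subgroup.index_ker, ← hcard]
    exact Nat.mul_le_mul hker (Subgroup.card_le_card_group _)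
  · rw [← hcard]
    refine Nat.card_le_card_of_injective φ fun a b e => ?_
    have h1 : φ (a / b) = 1 := by rw [map_div, e, div_self']
    have hneg : (-1 : F) = 1 := by linear_combination (-1 : F) * h2
    have h3 : ((a / b : A) : Fˣ) = 1 := Units.ext (by
      rcases hk _ h1 with h | h
      · exact h
      · rw [h, hneg]; rfl)
    exact div_eq_one.1 (Subtype.ext h3)

end scalars

variable {F : Type*} [Field F] {k : ℕ}

local notation "Vk" => (Fin k ⊕ Fin k → F)
local notation "Vec" => (Fin (k + 1) ⊕ Fin (k + 1) → F)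
local notation "Mk" => Matrix (Fin k ⊕ Fin k) (Fin k ⊕ Fin k) F
local notation "Sp" => Matrix.symplecticGroup (Fin (k + 1)) F
local notation "Spk" => Matrix.symplecticGroup (Fin k) F
local notation "fk" => Cfsg.sympForm k F

variable (H : Subgroup (Matrix.symplecticGroup (Fin (k + 1)) F))

/-- The scalars induced on the point. -/
noncomputable def torPart : Subgroup Fˣ := (levPart H).map (MonoidHom.fst Fˣ Spk)

/-- The part of the Levi image acting trivially on the point. -/
noncomputable def symPart : Subgroup Spk := (levPart H).comap (MonoidHom.inr Fˣ Spk)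

theorem mem_symPart {g : Spk} : g ∈ symPart H ↔ ((1 : Fˣ), g) ∈ levPart H := Iff.rfl

theorem natCard_levPart : Nat.card (levPart H) = Nat.card (torPart H) * Nat.card (symPart H) := by
  set ψ := (MonoidHom.fst Fˣ Spk).comp (levPart H).subtype with hψ
  have hr : ψ.range = torPart H := by
    rw [hψ, MonoidHom.range_comp, Subgroup.range_subtype]; rfl
  rw [← ψ.ker.card_mul_index, Subgroup.index_ker, hr, mul_comm]
  congr 1
  refine Nat.card_congr
    { toFun := fun x => ⟨(x : levPart H).1.2, ?_⟩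
      invFun := fun g => ⟨⟨(1, g), g.2⟩, rfl⟩
      left_inv := fun x => ?_
      right_inv := fun g => rfl }
  · have h1 : (x : levPart H).1.1 = 1 := x.2
    rw [mem_symPart, ← h1]
    exact (x : levPart H).2
  · have h1 : (x : levPart H).1.1 = 1 := x.2
    exact Subtype.ext (Subtype.ext (Prod.ext h1.symm rfl))

theorem smul_mulVec_mem_trPart {g : Spk} (hg : g ∈ symPart H) {w : Vk} (hw : w ∈ trPart H) :
    (g : Mk) *ᵥ w ∈ trPart H := by
  have := (smul_mem_parts H ((mem_symPart H).1 hg)).2 w hw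
  simpa using this

theorem conj_uu_mem {a : Fˣ} {g : Spk} {w₀ : Vk} {z₀ : F} (h : uu w₀ z₀ * levi a g ∈ H) {w : Vk} {z : F}
    (hwz : uu w z ∈ H) :
    uu ((a : F) • ((g : Mk) *ᵥ w)) ((a : F) * a * z + 2 * fk ((a : F) • ((g : Mk) *ᵥ w)) w₀) ∈ H := by
  have e := mul_mem (mul_mem h hwz) (inv_mem h)
  rw [_root_.mul_inv_rev, mul_assoc (uu w₀ z₀), levi_uu, ← mul_assoc (uu w₀ z₀), mul_assoc _ (levi _ _),
    mul_inv_cancel_left, uu_inv, uu_mul, uu_mul, add_neg_cancel_comm] at e
  have h5 : fk (-w₀) (w₀ + (a : F) • ((g : Mk) *ᵥ w)) = fk ((a : F) • ((g : Mk) *ᵥ w)) w₀ := by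
    rw [← neg_one_smul F w₀, Symplectic.f_smul_left, Symplectic.f_add_right, sympForm_self,
      zero_add, sympForm_swap ((a : F) • ((g : Mk) *ᵥ w)) w₀]
    ring
  rw [h5] at e
  convert e using 2
  ring

section finite

variable [Fintype F]

theorem torPart_sq_mem {a : Fˣ} (ha : a ∈ torPart H) : (a : F) * a ∈ scalarStab (F := F) (zPart H) := by
  obtain ⟨p, hp, rfl⟩ := ha
  intro z hz
  exact (smul_mem_parts H hp).1 z hz

theorem card_torPart_le : Nat.card (torPart H) ≤ Fintype.card F - 1 := by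
  refine (Subgroup.card_le_card_group _).trans (le_of_eq ?_)
  rw [Nat.card_units, Nat.card_eq_fintype_card]

/-- The product of the central part and the scalar part is small. -/
theorem zPart_mul_torPart_le (h : zPart H ≠ ⊤) :
    Nat.card (zPart H) * Nat.card (torPart H) ≤ 2 * (Fintype.card F - 1) ∧
      ((2 : F) = 0 → Nat.card (zPart H) * Nat.card (torPart H) ≤ Fintype.card F - 1) ∧
      Nat.card (zPart H) * Nat.card (scalarStab (F := F) (zPart H)) ≤ Fintype.card F := by
  have hD := card_scalarStab_mul_le (F := F) h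
  rw [Nat.card_eq_fintype_card (α := F)] at hD
  set d := Nat.card (scalarStab (F := F) (zPart H))
  set z := Nat.card (zPart H)
  have hz : 1 ≤ z := Nat.card_pos
  obtain ⟨h1, h2⟩ := card_le_of_sq_mem (scalarStab (F := F) (zPart H)) (torPart H) fun a ha =>
    torPart_sq_mem H ha
  have hd : 2 ≤ d := two_le_card_scalarStab _
  have key : z * (d - 1) ≤ Fintype.card F - 1 := by
    have : z * (d - 1) + z = d * z := by
      rw [← Nat.mul_succ, Nat.succ_eq_add_one, Nat.sub_add_cancel (by omega), mul_comm]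
    omega
  refine ⟨?_, fun h0 => ?_, by rw [mul_comm]; exact hD⟩
  · calc z * Nat.card (torPart H) ≤ z * (2 * (d - 1)) := Nat.mul_le_mul_left _ h1
      _ = 2 * (z * (d - 1)) := by ring
      _ ≤ _ := Nat.mul_le_mul_left _ key
  · exact (Nat.mul_le_mul_left _ (h2 h0)).trans key

theorem half_mem (hodd : (2 : F) ≠ 0) (Z : AddSubgroup F) {x : F} (h : 2 * x ∈ Z) : x ∈ Z := by
  obtain ⟨p, hp⟩ := CharP.exists F
  have hpp : p.Prime := (CharP.char_is_prime_or_zero F p).resolve_right fun h0 => by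
    subst h0
    haveI := CharP.charP_to_charZero F
    exact (inferInstance : Infinite F).not_finite inferInstance
  have hp2 : p ≠ 2 := fun e => hodd (by subst e; exact CharP.cast_eq_zero F 2)
  obtain ⟨t, ht⟩ := hpp.odd_of_ne_two hp2
  have := Z.nsmul_mem h (t + 1)
  have e : (t + 1) • (2 * x) = x := by
    rw [nsmul_eq_mul]
    have h0 : ((p : ℕ) : F) = 0 := CharP.cast_eq_zero F p
    rw [ht] at h0
    push_cast at h0 ⊢
    linear_combination x * h0
  rwa [e] at this

/-- A subgroup on which the form takes values in a proper subgroup is small. -/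
theorem card_sq_le_of_form_mem {Z : AddSubgroup F} (hZ : Z ≠ ⊤) (X : AddSubgroup Vk)
    (h : ∀ x ∈ X, ∀ y ∈ X, fk x y ∈ Z) :
    Nat.card X * Nat.card X ≤ Fintype.card F ^ (2 * k) := by
  classical
  obtain ⟨c, hc⟩ : ∃ c, c ∉ Z := by
    by_contra hh
    push Not at hh
    exact hZ (eq_top_iff.2 fun x _ => hh x)
  have hc0 : (QuotientAddGroup.mk c : F ⧸ Z) ≠ 0 := fun e => hc ((QuotientAddGroup.eq_zero_iff c).1 e)
  obtain ⟨χ, hχ⟩ := AddChar.exists_apply_ne_zero.2 hc0
  let ψ : AddChar F ℂ := χ.compAddMonoidHom (QuotientAddGroup.mk' Z)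
  have hψ : ∀ z ∈ Z, ψ z = 1 := fun z hz => by
    show χ (QuotientAddGroup.mk' Z z) = 1
    rw [show QuotientAddGroup.mk' Z z = 0 from (QuotientAddGroup.eq_zero_iff z).2 hz, AddChar.map_zero_eq_one]
  let ρ : X → AddChar (Vk ⧸ X) ℂ := fun x =>
    { toFun := Quotient.lift (fun v => ψ (fk (x : Vk) v)) fun v v' hvv => by
        have hm : -v + v' ∈ X := QuotientAddGroup.leftRel_apply.1 hvv
        have e : fk (x : Vk) v' = fk (x : Vk) v + fk (x : Vk) (-v + v') := by
          rw [← Symplectic.f_add_right, add_neg_cancel_left]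
        simp only [e, AddChar.map_add_eq_mul, hψ _ (h _ x.2 _ hm), mul_one]
      map_zero_eq_one' := by
        show ψ (fk (x : Vk) 0) = 1
        rw [show fk (x : Vk) 0 = 0 by simp, AddChar.map_zero_eq_one]
      map_add_eq_mul' := fun a b => by
        induction a using QuotientAddGroup.induction_on with | _ a =>
        induction b using QuotientAddGroup.induction_on with | _ b =>
        show ψ (fk (x : Vk) (a + b)) = ψ (fk (x : Vk) a) * ψ (fk (x : Vk) b)
        rw [Symplectic.f_add_right, AddChar.map_add_eq_mul] }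
  have hρ : Function.Injective ρ := by
    intro x y e
    refine Subtype.ext (sub_eq_zero.1 ?_)
    by_contra hne
    obtain ⟨v, hv⟩ := Symplectic.exists_partner hne
    have e1 : ψ (fk (x : Vk) (c • v)) = ψ (fk (y : Vk) (c • v)) :=
      DFunLike.congr_fun e (QuotientAddGroup.mk (c • v))
    have e2 : fk ((x : Vk) - y) (c • v) = c := by rw [Symplectic.f_smul_right, hv, mul_one]
    have e3 : ψ (fk ((x : Vk) - y) (c • v)) * ψ (fk (y : Vk) (c • v)) = ψ (fk (x : Vk) (c • v)) := by
      rw [← AddChar.map_add_eq_mul, ← Symplectic.f_add_left, sub_add_cancel]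
    rw [e2, e1, ← sub_eq_zero, ← sub_one_mul] at e3
    rcases mul_eq_zero.1 e3 with h1 | h1
    · exact hχ (sub_eq_zero.1 h1)
    · have h2 := AddChar.map_add_eq_mul ψ (fk (y : Vk) (c • v)) (-fk (y : Vk) (c • v))
      rw [h1, zero_mul, add_neg_cancel, AddChar.map_zero_eq_one] at h2
      exact one_ne_zero h2
  have h1 := Nat.card_le_card_of_injective ρ hρ
  have h2 := Nat.card_congr (AddSubgroup.addGroupEquivQuotientProdAddSubgroup (s := X))
  rw [Nat.card_prod] at h2
  have h3 : Nat.card (AddChar (Vk ⧸ X) ℂ) = Nat.card (Vk ⧸ X) := by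
    have := Fintype.ofFinite (Vk ⧸ X)
    rw [Nat.card_eq_fintype_card, Nat.card_eq_fintype_card, AddChar.card_eq]
  rw [h3] at h1
  calc Nat.card X * Nat.card X ≤ Nat.card (Vk ⧸ X) * Nat.card X := Nat.mul_le_mul_right _ h1
    _ = Nat.card Vk := h2.symm
    _ = _ := by
      rw [Nat.card_fun, Nat.card_eq_fintype_card, Nat.card_eq_fintype_card (α := Fin k ⊕ Fin k),
        Fintype.card_sum, Fintype.card_fin, two_mul]

theorem card_trPart_sq_le (hodd : (2 : F) ≠ 0) (h : zPart H ≠ ⊤) :
    Nat.card (trPart H) * Nat.card (trPart H) ≤ Fintype.card F ^ (2 * k) :=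
  card_sq_le_of_form_mem h _ fun _ hx _ hy => half_mem hodd _ (two_mul_form_mem H hx hy)

end finite

/-- If the translation part is everything then the centre is everything. -/
theorem zPart_eq_top_of_trPart_eq_top_odd (hk : 1 ≤ k) [Fintype F] (hodd : (2 : F) ≠ 0)
    (h : trPart H = ⊤) : zPart H = ⊤ := by
  refine eq_top_iff.2 fun z _ => ?_
  obtain ⟨v, hv⟩ : ∃ v : Vk, v ≠ 0 := ⟨Pi.single (Sum.inl ⟨0, hk⟩) 1, fun e => by
    simpa using congrFun e (Sum.inl ⟨0, hk⟩)⟩
  obtain ⟨w, hw⟩ := Symplectic.exists_partner hv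
  have := two_mul_form_mem H (w := v) (w' := z • w) (h ▸ AddSubgroup.mem_top _) (h ▸ AddSubgroup.mem_top _)
  rw [Symplectic.f_smul_right, hw, mul_one] at this
  exact half_mem hodd _ this

/-- In characteristic two, a full translation part invariant under the full symplectic group. -/
theorem zPart_eq_top_of_full_even (hk : 1 ≤ k) [Fintype F] (hq : 3 ≤ Fintype.card F) (heven : (2 : F) = 0)
    (h : trPart H = ⊤) (hsym : symPart H = ⊤) : zPart H = ⊤ := by
  choose φ hφ using fun w : Vk => (mem_trPart H).1 (h ▸ AddSubgroup.mem_top w : w ∈ trPart H)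
  obtain ⟨v, hv⟩ : ∃ v : Vk, v ≠ 0 := ⟨Pi.single (Sum.inl ⟨0, hk⟩) 1, fun e => by
    simpa using congrFun e (Sum.inl ⟨0, hk⟩)⟩
  have hconst : ∀ w : Vk, w ≠ 0 → φ w - φ v ∈ zPart H := by
    intro w hw
    obtain ⟨g, hg⟩ := Symplectic.exists_move hv hw
    obtain ⟨w₀, z₀, h0⟩ := (mem_levPart H).1 ((mem_symPart H).1 (hsym ▸ Subgroup.mem_top g : g ∈ symPart H))
    have e := conj_uu_mem H h0 (hφ v)
    rw [Units.val_one, one_smul, hg, heven, zero_mul, add_zero, one_mul, one_mul] at e
    exact sub_mem_zPart H (hφ w) e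
  have hadd : ∀ w w' : Vk, φ w + φ w' + fk w' w - φ (w + w') ∈ zPart H := by
    intro w w'
    have e := mul_mem (hφ w) (hφ w')
    rw [uu_mul] at e
    exact sub_mem_zPart H e (hφ _)
  obtain ⟨t, ht0, ht1⟩ : ∃ t : F, t ≠ 0 ∧ t ≠ 1 := by
    classical
    by_contra hc
    push Not at hc
    have hle : (Finset.univ : Finset F).card ≤ ({0, 1} : Finset F).card :=
      Finset.card_le_card fun t _ => by
        by_cases ht : t = 0
        · simp [ht]
        · simp [hc t ht]
    have := hle.trans Finset.card_le_two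
    rw [Finset.card_univ] at this
    omega
  have h2 : ∀ x : F, x + x = 0 := fun x => by linear_combination x * heven
  have key : ∀ w w' : Vk, w ≠ 0 → w' ≠ 0 → w + w' ≠ 0 → φ v + fk w' w ∈ zPart H := by
    intro w w' hw hw' hww
    have e := sub_mem (hadd w w') (sub_mem (add_mem (hconst w hw) (hconst w' hw')) (hconst (w + w') hww))
    convert e using 1
    ring
  have hv0 : φ v ∈ zPart H := by
    have := key v (t • v) hv (smul_ne_zero ht0 hv) (by
      rw [show v + t • v = (1 + t) • v by rw [add_smul, one_smul]]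
      exact smul_ne_zero (fun e => ht1 (by linear_combination e - heven)) hv)
    rwa [Symplectic.f_smul_left, sympForm_self, mul_zero, add_zero] at this
  refine eq_top_iff.2 fun z _ => ?_
  by_cases hz : z = 0
  · rw [hz]; exact zero_mem _
  obtain ⟨w, hw⟩ := Symplectic.exists_partner hv
  have hw0 : w ≠ 0 := fun e => by rw [e] at hw; simp at hw
  have := key (z • w) v (smul_ne_zero hz hw0) hv (by
    intro e
    have h1 := congrArg (fun x => fk x w) e
    simp only [Symplectic.f_add_left, Symplectic.f_smul_left, sympForm_self, hw, mul_zero, zero_add,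
      fk_zero_left] at h1
    exact one_ne_zero h1)
  rw [Symplectic.f_smul_right, hw, mul_one] at this
  simpa using sub_mem this hv0

/-! ### Liftings -/

/-- The conjugate in which the Levi image lifts without translation. -/
theorem exists_conj_lift [Fintype F] {a : Fˣ} {g₀ : Spk} {ε : F}
    (hε : ∀ w : Vk, (g₀ : Mk) *ᵥ w = ε • w) (ha : (a, g₀) ∈ levPart H) (hne : (a : F) * ε ≠ 1) :
    ∃ w₁ : Vk, ∀ p ∈ levPart H, ∃ z, uu 0 z * levi p.1 p.2 ∈ conjBy H (uu w₁ 0) := by
  obtain ⟨w₀, z₀, h0⟩ := (mem_levPart H).1 ha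
  set lam := (a : F) * ε with hlam
  set w₁ : Vk := (lam - 1)⁻¹ • w₀ with hw₁
  refine ⟨w₁, fun p hp => ?_⟩
  obtain ⟨w, z, h1⟩ := (mem_levPart H).1 hp
  set B : Sp := uu w₁ 0 with hB
  have hconj : ∀ (v : Vk) (y : F) (b : Fˣ) (g : Spk), ∃ y', B * (uu v y * levi b g) * B⁻¹ =
      uu (w₁ + v - (b : F) • ((g : Mk) *ᵥ w₁)) y' * levi b g := by
    intro v y b g
    rw [hB, uu_inv, mul_assoc, mul_assoc, levi_uu, ← mul_assoc, ← mul_assoc, uu_mul, uu_mul,
      Matrix.mulVec_neg, smul_neg, ← sub_eq_add_neg]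
    exact ⟨_, rfl⟩
  have hX : lam ∈ scalarStab (F := F) (trPart H) := fun x hx => by
    have := (smul_mem_parts H ha).2 x hx
    simp only at this
    rwa [hε, smul_smul] at this
  obtain ⟨y₀, hy₀⟩ := hconj w₀ z₀ a g₀
  have hx0 : uu 0 y₀ * levi a g₀ ∈ conjBy H B := by
    have : B * (uu w₀ z₀ * levi a g₀) * B⁻¹ ∈ conjBy H B := ⟨_, h0, rfl⟩
    rw [hy₀] at this
    convert this using 3
    rw [hε, smul_smul, ← hlam, hw₁, smul_smul]
    have : w₀ = ((lam - 1)⁻¹ * (lam - 1)) • w₀ := by
      rw [inv_mul_cancel₀ (sub_ne_zero.2 hne), one_smul]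
    conv_rhs => arg 1; arg 2; rw [this]
    module
  obtain ⟨y, hy⟩ := hconj w z p.1 p.2
  have hx1 : uu (w₁ + w - (p.1 : F) • ((p.2 : Mk) *ᵥ w₁)) y * levi p.1 p.2 ∈ conjBy H B := by
    rw [← hy]
    exact ⟨_, h1, rfl⟩
  set v := w₁ + w - (p.1 : F) • ((p.2 : Mk) *ᵥ w₁) with hv
  have hcomm : levi a g₀ * levi p.1 p.2 = (levi p.1 p.2 * levi a g₀ : Sp) := by
    rw [levi_mul, levi_mul, mul_comm a]
    refine congrArg _ (sp_ext fun x => ?_)
    rw [mul_mulVec_sp, mul_mulVec_sp, hε, hε, Matrix.mulVec_smul]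
  have e := mul_mem (mul_mem (mul_mem hx0 hx1) (inv_mem hx0)) (inv_mem hx1)
  have e' : ∃ y', uu ((lam - 1) • v) y' ∈ conjBy H B := by
    have h2 : ∃ y1, (uu 0 y₀ * levi a g₀) * (uu v y * levi p.1 p.2) =
        (uu (lam • v) y1 * levi (a * p.1) (g₀ * p.2) : Sp) := by
      rw [mul_assoc, ← mul_assoc (levi a g₀), levi_uu, mul_assoc, levi_mul, ← mul_assoc, uu_mul, zero_add,
        hε, smul_smul]
      exact ⟨_, rfl⟩
    have h3 : ∃ y1, (uu v y * levi p.1 p.2) * (uu 0 y₀ * levi a g₀) =
        (uu v y1 * levi (p.1 * a) (p.2 * g₀) : Sp) := by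
      rw [mul_assoc, ← mul_assoc (levi p.1 p.2), levi_uu, Matrix.mulVec_zero, smul_zero, mul_assoc, levi_mul,
        ← mul_assoc, uu_mul, add_zero]
      exact ⟨_, rfl⟩
    obtain ⟨y1, hy1⟩ := h2
    obtain ⟨y2, hy2⟩ := h3
    have e2 : ∀ x0 x1 : Sp, x0 * x1 * x0⁻¹ * x1⁻¹ = (x0 * x1) * (x1 * x0)⁻¹ := fun _ _ => by group
    rw [e2, hy1, hy2] at e
    rw [← levi_mul a, ← levi_mul p.1, hcomm, _root_.mul_inv_rev, mul_assoc, mul_inv_cancel_left, uu_inv,
      uu_mul, ← sub_eq_add_neg, show lam • v - v = (lam - 1) • v by rw [sub_smul, one_smul]] at e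
    exact ⟨_, e⟩
  obtain ⟨y', he⟩ := e'
  -- the translation parts of `H` and its conjugate agree
  have htr : ∀ x y1, uu x y1 ∈ conjBy H B → x ∈ trPart H := by
    intro x y1 hxy
    rw [mem_conjBy, hB, uu_inv, uu_mul, uu_mul] at hxy
    rw [neg_add_cancel_comm] at hxy
    exact ⟨_, hxy⟩
  have hvX : v ∈ trPart H := by
    have h1 := htr _ _ he
    have h2 : (lam - 1)⁻¹ ∈ scalarStab (F := F) (trPart H) :=
      (scalarStab (F := F) (trPart H)).inv_mem
        ((scalarStab (F := F) (trPart H)).sub_mem hX (scalarStab (F := F) (trPart H)).one_mem)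
    have := h2 _ h1
    rwa [smul_smul, inv_mul_cancel₀ (sub_ne_zero.2 hne), one_smul] at this
  obtain ⟨z', hz'⟩ := hvX
  have hvB : ∃ y3, uu v y3 ∈ conjBy H B := by
    have h4 : B * uu v z' * B⁻¹ ∈ conjBy H B := ⟨_, hz', rfl⟩
    rw [hB, uu_inv, uu_mul, uu_mul, add_neg_cancel_comm] at h4
    exact ⟨_, h4⟩
  obtain ⟨y3, h3⟩ := hvB
  have e2 := mul_mem (inv_mem h3) hx1
  rw [← mul_assoc, uu_inv, uu_mul, neg_add_cancel] at e2
  exact ⟨_, e2⟩

end Cfsg.Agent.Classical.PSpMinIndex
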