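import Mathlib
import Cfsg.Agent.Lib.Classical.PSpMinIndex.Parts

/-!
# Full translation parts at every point are impossible in characteristic two
-/

set_option autoImplicit false
set_option linter.unusedSectionVars false

namespace Cfsg.Agent.Classical.PSpMinIndex

open Matrix
open Cfsg.Agent.Forms.SympStd
open Cfsg.Agent.Classical.Symplectic

variable {F : Type*} [Field F] {k : ℕ}

local notation "Vk" => (Fin k ⊕ Fin k → F)
local notation "Vec" => (Fin (k + 1) ⊕ Fin (k + 1) → F)
local notation "Mat" => Matrix (Fin (k + 1) ⊕ Fin (k + 1)) (Fin (k + 1) ⊕ Fin (k + 1)) F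
local notation "Sp" => Matrix.symplecticGroup (Fin (k + 1)) F
local notation "f" => Cfsg.sympForm (k + 1) F
local notation "fk" => Cfsg.sympForm k F

theorem uu_eq_short_mul_tv (w : Vk) (z : F) : (uu w z : Sp) = uu w 0 * tv eP z := by
  rw [← uu_zero_eq_tv, uu_mul, add_zero, zero_add, fk_zero_left, add_zero]

theorem uu_mulVec_form (w : Vk) (x : Vec) :
    (uu w 0 : Mat) *ᵥ x = x + f x eP • emb w + f x (emb w) • eP := by
  rw [uu_mulVec, form_eq, form_eq]
  simp

/-- A translation along `u` is symmetric in the two points. -/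
theorem swap_uu (A : Sp) (u : Vk) (t : F) (h1 : (A : Mat) *ᵥ eP = emb u) (h2 : (A : Mat) *ᵥ emb u = eP) :
    A * uu (t • u) 0 * A⁻¹ = uu (t • u) 0 := by
  refine sp_ext fun x => ?_
  have e : (A : Mat) *ᵥ (((A⁻¹ : Sp) : Mat) *ᵥ x) = x := by
    rw [← mul_mulVec_sp, mul_inv_cancel]; exact one_mulVec x
  set y := ((A⁻¹ : Sp) : Mat) *ᵥ x with hy
  rw [mul_mulVec_sp, mul_mulVec_sp, ← hy, uu_mulVec_form, uu_mulVec_form, map_smul, Matrix.mulVec_add,
    Matrix.mulVec_add, Matrix.mulVec_smul, Matrix.mulVec_smul, Matrix.mulVec_smul, h1, h2, e,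
    Symplectic.f_smul_right, Symplectic.f_smul_right, ← sympForm_mulVec A y eP, ← sympForm_mulVec A y (emb u),
    h1, h2, e]
  module

variable (H : Subgroup (Matrix.symplecticGroup (Fin (k + 1)) F))

theorem form_neg_add (v x : Vk) : fk (-v) (v + x) = fk x v := by
  rw [← neg_one_smul F v, Symplectic.f_smul_left, Symplectic.f_add_right, sympForm_self, zero_add,
    sympForm_swap x v]
  ring

/-- The parameters of root elements at `emb u` occurring in the line radical. -/
def CPart (u : Vk) : Set F := {c | ∃ s z : F, uu (s • u) z * tv (emb u) c ∈ H}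

theorem uu_mem_of_mem_CPart (h : trPart H = ⊤) {u : Vk} (hu : u ≠ 0) {c : F} (hc : c ∈ CPart H u) (α : F) :
    uu ((c * α) • u) (c * α * α) ∈ H := by
  obtain ⟨s, z₀, hb⟩ := hc
  obtain ⟨w₁, hw₁⟩ := Symplectic.exists_partner hu
  obtain ⟨z, hx⟩ := (mem_trPart H).1 (h ▸ AddSubgroup.mem_top (α • w₁) : α • w₁ ∈ trPart H)
  set x := uu (α • w₁) z
  set v := uu (s • u) z₀
  -- the commutator of `x` with `v * tv (emb u) c`
  have e := mul_mem (mul_mem (mul_mem hx hb) (inv_mem hx)) (inv_mem hb)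
  have hcomm : x * v * x⁻¹ = uu (s • u) (z₀ + 2 * fk (s • u) (α • w₁)) := by
    rw [uu_inv, uu_mul, uu_mul, add_neg_cancel_comm]
    congr 1
    rw [form_neg_add]
    ring
  have hc2 : x * tv (emb u) c * x⁻¹ * (tv (emb u) c)⁻¹ = uu ((c * α) • u) (c * α * α) := by
    have hx1 : (x : Mat) *ᵥ emb u = emb u + α • eP := by
      refine vec_ext ?_ ?_ ?_ <;> simp [x, Symplectic.f_smul_right, hw₁]
    rw [mul_inv_eq_iff_eq_mul, Symplectic.tv_conj, hx1]
    refine sp_ext fun y => vec_ext ?_ ?_ ?_ <;> rw [mul_mulVec_sp] <;>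
      simp [-Matrix.mulVec_mulVec, tv_mulVec, form_eq, Symplectic.f_smul_left, Symplectic.f_smul_right,
        Symplectic.f_add_left, sympForm_self]
    · ring
    · module
  have e2 : x * (v * tv (emb u) c) * x⁻¹ * (v * tv (emb u) c)⁻¹ =
      x * v * x⁻¹ * (x * tv (emb u) c * x⁻¹ * (tv (emb u) c)⁻¹) * v⁻¹ := by group
  rw [e2, hcomm, hc2, uu_mul, uu_inv, uu_mul, add_neg_cancel_comm] at e
  have h2 : ((2 : F) * fk (s • u) (α • w₁)) ∈ zPart H := by
    obtain ⟨z', hz'⟩ := (mem_trPart H).1 (h ▸ AddSubgroup.mem_top (s • u) : s • u ∈ trPart H)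
    exact two_mul_form_mem H ⟨z', hz'⟩ ⟨z, hx⟩
  have hz : fk ((c * α) • u) (s • u) = 0 := by
    rw [Symplectic.f_smul_left, Symplectic.f_smul_right, sympForm_self, mul_zero, mul_zero]
  have hz' : fk (-(s • u)) (s • u + (c * α) • u) = 0 := by
    rw [← neg_one_smul F (s • u), ← add_smul, Symplectic.f_smul_left, Symplectic.f_smul_left,
      Symplectic.f_smul_right, sympForm_self]
    simp
  rw [hz, hz', add_zero, add_zero] at e
  have e3 := mul_mem e (inv_mem ((mem_zPart H).1 h2))
  rw [uu_inv, uu_mul, neg_zero, add_zero, fk_zero_left, add_zero] at e3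
  convert e3 using 2
  ring

variable [Fintype F]

theorem exists_sqrt (heven : (2 : F) = 0) (y : F) : ∃ t : F, t * t = y := by
  have hinj : Function.Injective (fun t : F => t * t) := fun a b e => by
    have e' : a * a = b * b := e
    have h2 : (a - b) * (a - b) = 0 := by linear_combination e' + (b * b - a * b) * heven
    exact sub_eq_zero.1 (mul_self_eq_zero.1 h2)
  exact Finite.injective_iff_surjective.1 hinj y

theorem eq_of_mem_CPart (heven : (2 : F) = 0) (h : trPart H = ⊤) (hz : zPart H ≠ ⊤) {u : Vk} (hu : u ≠ 0)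
    {c c' : F} (hc : c ∈ CPart H u) (hc' : c' ∈ CPart H u) (h0 : c ≠ 0) (h0' : c' ≠ 0) : c = c' := by
  by_contra hne
  apply hz
  refine eq_top_iff.2 fun y _ => ?_
  have hd : c⁻¹ - c'⁻¹ ≠ 0 := sub_ne_zero.2 fun e => hne (inv_injective e)
  obtain ⟨t, ht⟩ := exists_sqrt heven (y * (c⁻¹ - c'⁻¹)⁻¹)
  have e1 := uu_mem_of_mem_CPart H h hu hc (t / c)
  have e2 := uu_mem_of_mem_CPart H h hu hc' (t / c')
  rw [mul_div_cancel₀ _ h0] at e1
  rw [mul_div_cancel₀ _ h0'] at e2
  have e3 := sub_mem_zPart H e1 e2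
  rwa [div_eq_mul_inv, div_eq_mul_inv, ← mul_assoc, ← mul_assoc, ← mul_sub, ht, mul_assoc,
    inv_mul_cancel₀ hd, mul_one] at e3

/-- In characteristic two some point outside the root set has a proper translation part. -/
theorem false_of_trPart_top (hk : 1 ≤ k) (hq : 4 ≤ Fintype.card F) (heven : (2 : F) = 0)
    (hz : zPart H ≠ ⊤) (h : trPart H = ⊤)
    (hall : ∀ A : Sp, zPart (conjBy H A) ≠ ⊤ → trPart (conjBy H A) = ⊤) : False := by
  classical
  have hthree : ∀ (u : Vk), u ≠ 0 → ∀ (H' : Subgroup (Matrix.symplecticGroup (Fin (k + 1)) F)),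
      zPart H' ≠ ⊤ → trPart H' = ⊤ → ∃ t : F, t * t ∉ CPart H' u := by
    intro u hu H' hz' h'
    by_contra hh
    push Not at hh
    obtain ⟨t, ht0, ht1⟩ : ∃ t : F, t ≠ 0 ∧ t * t ≠ 1 := by
      by_contra hc
      push Not at hc
      have hle : (Finset.univ : Finset F).card ≤ ({0, 1} : Finset F).card :=
        Finset.card_le_card fun t _ => by
          by_cases ht : t = 0
          · simp [ht]
          · have h1 := hc t ht
            have : (t - 1) * (t - 1) = 0 := by linear_combination h1 + (1 - t) * heven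
            simp [sub_eq_zero.1 (mul_self_eq_zero.1 this)]
      have := hle.trans Finset.card_le_two
      rw [Finset.card_univ] at this
      omega
    have h1 : (1 : F) ∈ CPart H' u := by simpa using hh 1
    exact ht1 (eq_of_mem_CPart H' heven h' hz' hu (hh t) h1 (mul_self_ne_zero.2 ht0) one_ne_zero)
  have key : ∀ u : Vk, u ≠ 0 → zPart H = ⊥ ∧ ∀ t : F, uu (t • u) 0 ∈ H := by
    intro u hu
    have hli : LinearIndependent F ![(eP : Vec), emb u] := by
      rw [LinearIndependent.pair_iff' eP_ne_zero]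
      intro a ha
      have := congrArg res ha
      simp at this
      exact hu this.symm
    obtain ⟨A, hA1, hA2⟩ := Symplectic.exists_map_pair hli (LinearIndependent.pair_symm_iff.1 hli) (by
      rw [sympForm_swap (eP : Vec) (emb u), form_eq]; simp)
    have hA1' : ((A⁻¹ : Sp) : Mat) *ᵥ eP = emb u := inv_mulVec_of_eq hA2
    have hA2' : ((A⁻¹ : Sp) : Mat) *ᵥ emb u = eP := inv_mulVec_of_eq hA1
    set H' := conjBy H A⁻¹ with hH'
    have hmem : ∀ B : Sp, B ∈ H' ↔ A * B * A⁻¹ ∈ H := fun B => by rw [hH', mem_conjBy, inv_inv]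
    have hmem' : ∀ B : Sp, B ∈ H → A⁻¹ * B * A ∈ H' := fun B hB => by
      rw [hmem]; simpa [mul_assoc] using hB
    have hswap : ∀ t z : F, uu (t • u) z ∈ H → z ∈ CPart H' u := by
      intro t z hB
      refine ⟨t, 0, ?_⟩
      have e := hmem' _ hB
      rw [uu_eq_short_mul_tv] at e
      have e' : A⁻¹ * (uu (t • u) 0 * tv eP z) * A =
          (A⁻¹ * uu (t • u) 0 * A⁻¹⁻¹) * (A⁻¹ * tv eP z * A⁻¹⁻¹) := by group
      rw [e', swap_uu A⁻¹ u t hA1' hA2', Symplectic.tv_conj, hA1'] at e
      exact e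
    have hswap' : ∀ t z : F, uu (t • u) z ∈ H' → z ∈ CPart H u := by
      intro t z hB
      refine ⟨t, 0, ?_⟩
      have e := (hmem _).1 hB
      rw [uu_eq_short_mul_tv] at e
      have e' : A * (uu (t • u) 0 * tv eP z) * A⁻¹ = (A * uu (t • u) 0 * A⁻¹) * (A * tv eP z * A⁻¹) := by group
      rw [e', swap_uu A u t hA1 hA2, Symplectic.tv_conj, hA1] at e
      exact e
    have hz' : zPart H' ≠ ⊤ := by
      intro e
      obtain ⟨t, ht⟩ := hthree u hu H hz h
      exact ht (hswap' 0 _ (by rw [zero_smul]; exact (mem_zPart H').1 (e ▸ AddSubgroup.mem_top _)))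
    have h' : trPart H' = ⊤ := hall _ hz'
    have hC : ∀ c ∈ CPart H u, c = 0 := by
      intro c hc
      by_contra hc0
      have hh : ∀ t : F, t * t ∈ CPart H' u := by
        intro t
        obtain ⟨r, hr⟩ := exists_sqrt heven c
        have hr0 : r ≠ 0 := fun e => hc0 (by rw [← hr, e, mul_zero])
        have := hswap _ _ (uu_mem_of_mem_CPart H h hu hc (t / r))
        convert this using 1
        field_simp
        linear_combination (t * t) * hr
      obtain ⟨t, ht⟩ := hthree u hu H' hz' h'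
      exact ht (hh t)
    have hC' : ∀ c ∈ CPart H' u, c = 0 := by
      intro c hc
      by_contra hc0
      obtain ⟨r, hr⟩ := exists_sqrt heven c
      have hr0 : r ≠ 0 := fun e => hc0 (by rw [← hr, e, mul_zero])
      have h1 := hC _ (hswap' _ _ (uu_mem_of_mem_CPart H' h' hu hc (1 / r)))
      rw [← hr] at h1
      field_simp at h1
      exact one_ne_zero h1
    refine ⟨(AddSubgroup.eq_bot_iff_forall _).2 fun z hz0 => hC' z (hswap 0 z (by rwa [zero_smul])), fun t => ?_⟩
    obtain ⟨z, hzz⟩ := (mem_trPart H).1 (h ▸ AddSubgroup.mem_top (t • u) : t • u ∈ trPart H)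
    rwa [hC' z (hswap t z hzz)] at hzz
  obtain ⟨v, hv⟩ : ∃ v : Vk, v ≠ 0 := ⟨Pi.single (Sum.inl ⟨0, hk⟩) 1, fun e => by
    simpa using congrFun e (Sum.inl ⟨0, hk⟩)⟩
  obtain ⟨w, hw⟩ := Symplectic.exists_partner hv
  have hw0 : w ≠ 0 := fun e => by rw [e] at hw; simp at hw
  have hvw : v + w ≠ 0 := fun e => by
    have h1 : fk (v + w) w = 0 := by rw [e]; simp
    rw [Symplectic.f_add_left, sympForm_self, hw, add_zero] at h1
    exact one_ne_zero h1
  have h1 : uu v 0 ∈ H := by simpa using (key v hv).2 1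
  have h2 : uu w 0 ∈ H := by simpa using (key w hw0).2 1
  have h3 : uu (v + w) 0 ∈ H := by simpa using (key _ hvw).2 1
  have e := mul_mem h2 h1
  rw [uu_mul, add_comm w v, zero_add, zero_add, hw] at e
  have e4 := sub_mem_zPart H e h3
  rw [(key v hv).1, AddSubgroup.mem_bot, sub_zero] at e4
  exact one_ne_zero e4

end Cfsg.Agent.Classical.PSpMinIndex
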