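import Mathlib
import Cfsg.Agent.Lib.Classical.PSpMinIndex.Even

/-!
# A full Levi image gives root groups
-/

set_option autoImplicit false
set_option linter.unusedSectionVars false

namespace Cfsg.Agent.Classical.PSpMinIndex

open Matrix
open Cfsg.Agent.Forms.SympStd
open Cfsg.Agent.Classical.Symplectic
open scoped commutatorElement

variable {F : Type*} [Field F] [Fintype F] {k : ℕ}

local notation "Vk" => (Fin k ⊕ Fin k → F)
local notation "Mat" => Matrix (Fin (k + 1) ⊕ Fin (k + 1)) (Fin (k + 1) ⊕ Fin (k + 1)) F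
local notation "Mk" => Matrix (Fin k ⊕ Fin k) (Fin k ⊕ Fin k) F
local notation "Sp" => Matrix.symplecticGroup (Fin (k + 1)) F
local notation "Spk" => Matrix.symplecticGroup (Fin k) F

/-- Minus the identity. -/
def negOne : Spk := ⟨-1, mem_sp_iff.2 fun u v => by
  simp only [Matrix.neg_mulVec, Matrix.one_mulVec]
  rw [← neg_one_smul F u, ← neg_one_smul F v, Symplectic.f_smul_left, Symplectic.f_smul_right]
  ring⟩

theorem negOne_mulVec (w : Vk) : ((negOne : Spk) : Mk) *ᵥ w = (-1 : F) • w := by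
  simp [negOne, Matrix.neg_mulVec]

theorem two_mul_card_le (Z : AddSubgroup F) (hZ : Z ≠ ⊤) :
    2 * Nat.card Z ≤ Fintype.card F ∧ ((2 : F) ≠ 0 → 3 * Nat.card Z ≤ Fintype.card F) := by
  have hi1 : Z.index ≠ 1 := fun h => hZ (AddSubgroup.index_eq_one.1 h)
  have hi0 : Z.index ≠ 0 := AddSubgroup.index_ne_zero_of_finite
  have h := Z.card_mul_index
  rw [Nat.card_eq_fintype_card (α := F)] at h
  refine ⟨?_, fun hodd => ?_⟩
  · rw [← h, mul_comm]
    exact Nat.mul_le_mul_left _ (by omega)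
  · have h2 : Z.index ≠ 2 := fun h2 => hodd (by
      have hd : 2 ∣ Fintype.card F := ⟨Nat.card Z, by rw [← h, h2, mul_comm]⟩
      obtain ⟨x, hx⟩ := exists_prime_addOrderOf_dvd_card (G := F) 2 hd
      have h0 := addOrderOf_nsmul_eq_zero x
      rw [hx, nsmul_eq_mul] at h0
      push_cast at h0
      refine (mul_eq_zero.1 h0).resolve_right fun e => ?_
      rw [e, addOrderOf_zero] at hx
      exact absurd hx (by norm_num))
    rw [← h, mul_comm]
    exact Nat.mul_le_mul_left _ (by omega)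

theorem nPts_mul_sub_one (q n : ℕ) (hq : 1 ≤ q) : nPts q n * (q - 1) + 1 = q ^ n := by
  obtain ⟨s, rfl⟩ : ∃ s, q = s + 1 := ⟨q - 1, by omega⟩
  induction n with
  | zero => simp [nPts]
  | succ n ih =>
    rw [nPts, Finset.sum_range_succ, ← nPts, Nat.add_sub_cancel] at *
    rw [pow_succ]
    nlinarith [ih]

variable (H : Subgroup (Matrix.symplecticGroup (Fin (k + 1)) F))

/-- Commutators of lifted elements lie in the Levi factor. -/
theorem levi_commutator_mem {g g' : Spk} (hg : ∃ z, uu (0 : Vk) z * levi 1 g ∈ H)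
    (hg' : ∃ z, uu (0 : Vk) z * levi 1 g' ∈ H) : levi (1 : Fˣ) ⁅g, g'⁆ ∈ H := by
  obtain ⟨z, hz⟩ := hg
  obtain ⟨z', hz'⟩ := hg'
  have hc : ∀ (y : F) (h : Spk), Commute (uu (0 : Vk) y) (levi 1 h : Sp) := fun y h => by
    rw [Commute, SemiconjBy, levi_uu, Matrix.mulVec_zero, smul_zero, Units.val_one, one_mul, one_mul]
  have e := mul_mem (mul_mem (mul_mem hz hz') (inv_mem hz)) (inv_mem hz')
  have h2 : ∀ (a b x y : Sp), Commute a b → Commute a y → Commute b x → Commute a x → Commute b y →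
      (a * x) * (b * y) * (a * x)⁻¹ * (b * y)⁻¹ = x * y * x⁻¹ * y⁻¹ := by
    intro a b x y hab hay hbx hax hby
    calc (a * x) * (b * y) * (a * x)⁻¹ * (b * y)⁻¹
        = a * (x * b) * y * x⁻¹ * a⁻¹ * y⁻¹ * b⁻¹ := by group
      _ = a * b * (x * y * x⁻¹) * (a⁻¹ * y⁻¹) * b⁻¹ := by rw [← hbx.eq]; group
      _ = a * b * ((x * y * x⁻¹ * y⁻¹) * a⁻¹) * b⁻¹ := by rw [(hay.inv_inv).eq]; group
      _ = a * b * a⁻¹ * (x * y * x⁻¹ * y⁻¹) * b⁻¹ := by
          rw [((((hax.mul_right hay).mul_right hax.inv_right).mul_right hay.inv_right).inv_left).symm.eq]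
          group
      _ = b * ((x * y * x⁻¹ * y⁻¹) * b⁻¹) := by rw [hab.eq]; group
      _ = x * y * x⁻¹ * y⁻¹ := by
          rw [((((hbx.mul_right hby).mul_right hbx.inv_right).mul_right hby.inv_right).inv_left).symm.eq]
          group
  rw [h2 _ _ _ _ (by rw [Commute, SemiconjBy, uu_mul, uu_mul, fk_zero_left, add_comm z z'])
    (hc _ _) (hc _ _) (hc _ _) (hc _ _), levi_inv, levi_inv, levi_mul, levi_mul, levi_mul] at e
  simpa [commutatorElement_def] using e

/-- Case A: a full Levi image yields all root groups of a complement. -/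
theorem exists_emb_rootSet_of_symPart_top (hk : 1 ≤ k) (hq : 3 ≤ Fintype.card F)
    (hperf : commutator Spk = ⊤) (hz : zPart H ≠ ⊤) (hsym : symPart H = ⊤)
    (hH : Nat.card (ptStab : Subgroup Sp) < Nat.card H) :
    ∃ A : Sp, ∀ w : Vk, (A : Mat) *ᵥ emb w ∈ rootSet H := by
  have hX : trPart H = ⊥ := by
    by_contra hne
    obtain ⟨x, hx, hx0⟩ : ∃ x ∈ trPart H, x ≠ 0 := by
      by_contra hc
      push Not at hc
      exact hne ((AddSubgroup.eq_bot_iff_forall _).2 hc)
    have htop : trPart H = ⊤ := eq_top_iff.2 fun y _ => by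
      by_cases hy : y = 0
      · rw [hy]; exact zero_mem _
      obtain ⟨g, hg⟩ := Symplectic.exists_move hx0 hy
      rw [← hg]
      exact smul_mulVec_mem_trPart H (hsym ▸ Subgroup.mem_top g) hx
    by_cases h2 : (2 : F) = 0
    · exact hz (zPart_eq_top_of_full_even H hk hq h2 htop hsym)
    · exact hz (zPart_eq_top_of_trPart_eq_top_odd H hk h2 htop)
  obtain ⟨a, g₀, ε, hε, hmem, hne⟩ : ∃ (a : Fˣ) (g₀ : Spk) (ε : F),
      (∀ w : Vk, (g₀ : Mk) *ᵥ w = ε • w) ∧ (a, g₀) ∈ levPart H ∧ (a : F) * ε ≠ 1 := by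
    by_cases h2 : (2 : F) = 0
    swap
    · exact ⟨1, negOne, -1, negOne_mulVec, (mem_symPart H).1 (hsym ▸ Subgroup.mem_top _), by
        rw [Units.val_one, one_mul]
        exact fun e => h2 (by linear_combination -e)⟩
    by_cases ht : ∃ a ∈ torPart H, (a : F) ≠ 1
    · obtain ⟨a, ha, ha1⟩ := ht
      obtain ⟨⟨a', g⟩, hp, rfl⟩ := ha
      refine ⟨a', 1, 1, fun w => by simp, ?_, by simpa using ha1⟩
      have := mul_mem hp ((mem_symPart H).1 (hsym ▸ Subgroup.mem_top g⁻¹ : g⁻¹ ∈ symPart H))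
      simpa using this
    exfalso
    push Not at ht
    have hq4 : 4 ≤ Fintype.card F := by
      by_contra hc
      have h3 : Fintype.card F = 3 := by omega
      have h0 := FiniteField.cast_card_eq_zero F
      rw [h3] at h0
      push_cast at h0
      exact one_ne_zero (α := F) (by linear_combination h0 - h2)
    have hA : Nat.card (torPart H) = 1 := by
      rw [Subgroup.card_eq_one, Subgroup.eq_bot_iff_forall]
      exact fun a ha => Units.ext (ht a ha)
    have hk' := key_lt H hH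
    rw [natCard_levPart, hA, hsym, Subgroup.card_top, hX] at hk'
    have hbot : Nat.card ↥(⊥ : AddSubgroup Vk) = 1 := AddSubgroup.card_bot
    rw [hbot, one_mul, one_mul] at hk'
    obtain ⟨hz2, -⟩ := two_mul_card_le (zPart H) hz
    have hN := nPts_mul_sub_one (Fintype.card F) (2 * (k + 1)) (by omega)
    obtain ⟨s, hs⟩ : ∃ s, Fintype.card F = s + 1 := ⟨Fintype.card F - 1, by omega⟩
    rw [hs] at hk' hz2 hN hq4
    rw [Nat.add_sub_cancel] at hk' hN
    set N := nPts (s + 1) (2 * (k + 1))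
    set Z := Nat.card (zPart H)
    set M := Nat.card Spk
    set P := (s + 1) ^ (2 * k + 1) with hP
    have hN' : N * s + 1 = P * (s + 1) := by rw [hN, hP, ← pow_succ]; ring_nf
    have h1 : P * s < N * Z := by
      have : (P * s) * M < (N * Z) * M := by linarith
      exact Nat.lt_of_mul_lt_mul_right this
    have h2' : 2 * (P * s) * s < (s + 1) * (P * (s + 1)) :=
      calc 2 * (P * s) * s < 2 * (N * Z) * s := by
            have : 0 < s := by omega
            exact Nat.mul_lt_mul_of_pos_right (Nat.mul_lt_mul_of_pos_left h1 two_pos) this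
        _ = (2 * Z) * (N * s) := by ring
        _ ≤ (s + 1) * (P * (s + 1)) := Nat.mul_le_mul hz2 (by omega)
    have h3 : 2 * s * s < (s + 1) * (s + 1) := by
      have : P * (2 * s * s) < P * ((s + 1) * (s + 1)) := by linarith
      exact Nat.lt_of_mul_lt_mul_left this
    nlinarith [hq4]
  obtain ⟨w₁, hw₁⟩ := exists_conj_lift H hε hmem hne
  refine ⟨(uu w₁ 0)⁻¹, fun w c => ?_⟩
  have hall : ∀ g : Spk, levi (1 : Fˣ) g ∈ conjBy H (uu w₁ 0) := by
    intro g
    have hle : commutator Spk ≤ (conjBy H (uu w₁ 0)).comap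
        ({ toFun := fun g => levi (1 : Fˣ) g
           map_one' := levi_one
           map_mul' := fun a b => by rw [levi_mul, one_mul] } : Spk →* Sp) := by
      rw [commutator_def, Subgroup.commutator_le]
      intro g₁ _ g₂ _
      exact levi_commutator_mem _ (hw₁ (1, g₁) ((mem_symPart H).1 (hsym ▸ Subgroup.mem_top g₁)))
        (hw₁ (1, g₂) ((mem_symPart H).1 (hsym ▸ Subgroup.mem_top g₂)))
    exact hle (hperf.symm ▸ Subgroup.mem_top g)
  have := hall (tv w c)
  rw [levi_one_tv, mem_conjBy] at this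
  rw [← Symplectic.tv_conj, inv_inv]
  exact this

/-- In case A the subgroup is the whole group. -/
theorem eq_top_of_symPart_top (hk : 1 ≤ k) (hq : 3 ≤ Fintype.card F)
    (hperf : commutator Spk = ⊤) (hz : zPart H ≠ ⊤) (hsym : symPart H = ⊤)
    (hH : Nat.card (ptStab : Subgroup Sp) < Nat.card H) : H = ⊤ := by
  obtain ⟨A, hA⟩ := exists_emb_rootSet_of_symPart_top H hk hq hperf hz hsym hH
  by_contra hne
  refine conjBy_ne_top H hne (eq_top_of_emb_mem (conjBy H A⁻¹) (by rw [natCard_conjBy]; exact hH) hk hq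
    fun w => ?_)
  rw [mem_rootSet_conjBy, inv_inv]
  exact hA w

theorem natCard_conjBy_lt (A : Sp) (hH : Nat.card (ptStab : Subgroup Sp) < Nat.card H) :
    Nat.card (ptStab : Subgroup Sp) < Nat.card (conjBy H A) := by
  rw [natCard_conjBy]; exact hH

/-- Either the subgroup is everything or some point has a proper central part. -/
theorem exists_zPart_ne_top (hne : H ≠ ⊤) : ∃ A : Sp, zPart (conjBy H A) ≠ ⊤ := by
  by_contra hc
  push Not at hc
  refine hne (eq_top_of_rootSet H fun v c => ?_)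
  by_cases hv : v = 0
  · have : tv v c = (1 : Sp) := sp_ext fun x => by rw [tv_mulVec, hv]; simp
    rw [this]; exact one_mem _
  obtain ⟨A, hA⟩ := Symplectic.exists_move hv eP_ne_zero
  have := (mem_zPart _).1 (hc A ▸ AddSubgroup.mem_top c : c ∈ zPart (conjBy H A))
  rw [uu_zero_eq_tv, ← hA, mem_conjBy, ← Symplectic.tv_conj] at this
  simpa [mul_assoc] using this

end Cfsg.Agent.Classical.PSpMinIndex
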