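import Mathlib
import Cfsg.Agent.Lib.Classical.PSpMinIndex.Lift

/-!
# The inductive step, in dimension at least six
-/

set_option autoImplicit false
set_option linter.unusedSectionVars false

namespace Cfsg.Agent.Classical.PSpMinIndex

open Matrix
open Cfsg.Agent.Forms.SympStd
open Cfsg.Agent.Classical.Symplectic

variable {F : Type*} [Field F] [Fintype F] {k : ℕ}

local notation "Vk" => (Fin k ⊕ Fin k → F)
local notation "Vec" => (Fin (k + 1) ⊕ Fin (k + 1) → F)
local notation "Mat" => Matrix (Fin (k + 1) ⊕ Fin (k + 1)) (Fin (k + 1) ⊕ Fin (k + 1)) F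
local notation "Mk" => Matrix (Fin k ⊕ Fin k) (Fin k ⊕ Fin k) F
local notation "Sp" => Matrix.symplecticGroup (Fin (k + 1)) F
local notation "Spk" => Matrix.symplecticGroup (Fin k) F
local notation "f" => Cfsg.sympForm (k + 1) F
local notation "fk" => Cfsg.sympForm k F

variable (H : Subgroup (Matrix.symplecticGroup (Fin (k + 1)) F))

theorem conjBy_conjBy (A B : Sp) : conjBy (conjBy H A) B = conjBy H (B * A) := by
  ext C
  rw [mem_conjBy, mem_conjBy, mem_conjBy]
  simp [mul_assoc]

theorem card_vk : Nat.card Vk = Fintype.card F ^ (2 * k) := by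
  rw [Nat.card_fun, Nat.card_eq_fintype_card, Nat.card_eq_fintype_card (α := Fin k ⊕ Fin k),
    Fintype.card_sum, Fintype.card_fin, two_mul]

/-- A proper additive subgroup of `Vk` has a non-trivial small annihilator stable under the isometries
preserving it. -/
theorem exists_annihilator (X : AddSubgroup Vk) (hX : X ≠ ⊤) :
    ∃ G : AddSubgroup Vk, G ≠ ⊥ ∧ Nat.card G * Nat.card X ≤ Fintype.card F ^ (2 * k) ∧
      ∀ g : Spk, (∀ x ∈ X, ((g⁻¹ : Spk) : Mk) *ᵥ x ∈ X) → ∀ w ∈ G, (g : Mk) *ᵥ w ∈ G := by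
  classical
  obtain ⟨ψ, hψ⟩ := AddChar.exists_apply_ne_zero.2 (one_ne_zero : (1 : F) ≠ 0)
  let G : AddSubgroup Vk :=
    { carrier := {w | ∀ x ∈ X, ψ (fk x w) = 1}
      zero_mem' := fun x _ => by simp [AddChar.map_zero_eq_one]
      add_mem' := fun {a b} ha hb x hx => by
        rw [Symplectic.f_add_right, AddChar.map_add_eq_mul, ha x hx, hb x hx, one_mul]
      neg_mem' := fun {a} ha x hx => by
        have h := AddChar.map_add_eq_mul ψ (fk x a) (fk x (-a))
        rw [← Symplectic.f_add_right, add_neg_cancel, fk_zero_right, AddChar.map_zero_eq_one, ha x hx,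
          one_mul] at h
        exact h.symm }
  let ρ : Vk → AddChar Vk ℂ := fun w =>
    { toFun := fun v => ψ (fk v w)
      map_zero_eq_one' := by simp [AddChar.map_zero_eq_one]
      map_add_eq_mul' := fun a b => by rw [Symplectic.f_add_left, AddChar.map_add_eq_mul] }
  have hρ : Function.Injective ρ := by
    intro a b e
    refine sub_eq_zero.1 ?_
    by_contra hne
    obtain ⟨v, hv⟩ := Symplectic.exists_partner hne
    have e1 : ψ (fk (-v) a) = ψ (fk (-v) b) := DFunLike.congr_fun e (-v)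
    have e2 : fk (-v) (a - b) = 1 := by
      rw [← neg_one_smul F v, Symplectic.f_smul_left, sympForm_swap (a - b) v, hv]; ring
    have e3 : ψ (fk (-v) (a - b)) * ψ (fk (-v) b) = ψ (fk (-v) a) := by
      rw [← AddChar.map_add_eq_mul, ← Symplectic.f_add_right, sub_add_cancel]
    rw [e2, e1, ← sub_eq_zero, ← sub_one_mul] at e3
    rcases mul_eq_zero.1 e3 with h1 | h1
    · exact hψ (sub_eq_zero.1 h1)
    · have h2 := AddChar.map_add_eq_mul ψ (fk (-v) b) (-fk (-v) b)
      rw [h1, zero_mul, add_neg_cancel, AddChar.map_zero_eq_one] at h2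
      exact one_ne_zero h2
  have hsurj : Function.Surjective ρ := by
    have hb : Function.Bijective ρ := (Fintype.bijective_iff_injective_and_card ρ).2 ⟨hρ, (AddChar.card_eq).symm⟩
    exact hb.2
  refine ⟨G, ?_, ?_, ?_⟩
  · obtain ⟨v, hv⟩ : ∃ v, v ∉ X := by
      by_contra hh
      push Not at hh
      exact hX (eq_top_iff.2 fun x _ => hh x)
    have hv0 : (QuotientAddGroup.mk v : Vk ⧸ X) ≠ 0 := fun e => hv ((QuotientAddGroup.eq_zero_iff v).1 e)
    obtain ⟨χ, hχ⟩ := AddChar.exists_apply_ne_zero.2 hv0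
    obtain ⟨w, hw⟩ := hsurj (χ.compAddMonoidHom (QuotientAddGroup.mk' X))
    intro hG
    have hwG : w ∈ G := fun x hx => by
      have h1 : ψ (fk x w) = χ (QuotientAddGroup.mk' X x) := DFunLike.congr_fun hw x
      rw [h1, show QuotientAddGroup.mk' X x = 0 from (QuotientAddGroup.eq_zero_iff x).2 hx,
        AddChar.map_zero_eq_one]
    rw [hG, AddSubgroup.mem_bot] at hwG
    apply hχ
    have h1 : ψ (fk v w) = χ (QuotientAddGroup.mk v) := DFunLike.congr_fun hw v
    rw [← h1, hwG, fk_zero_right, AddChar.map_zero_eq_one]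
  · let σ : G → AddChar (Vk ⧸ X) ℂ := fun w =>
      { toFun := Quotient.lift (fun v => ρ w v) fun v v' hvv => by
          have hm : -v + v' ∈ X := QuotientAddGroup.leftRel_apply.1 hvv
          show ψ (fk v w) = ψ (fk v' w)
          rw [show v' = v + (-v + v') by rw [add_neg_cancel_left], Symplectic.f_add_left,
            AddChar.map_add_eq_mul, w.2 _ hm, mul_one]
        map_zero_eq_one' := AddChar.map_zero_eq_one (ρ w)
        map_add_eq_mul' := fun a b => by
          induction a using QuotientAddGroup.induction_on with | _ a =>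
          induction b using QuotientAddGroup.induction_on with | _ b =>
          exact AddChar.map_add_eq_mul (ρ w) a b }
    have hσ : Function.Injective σ := fun a b e => by
      refine Subtype.ext (hρ ?_)
      ext v
      exact DFunLike.congr_fun e (QuotientAddGroup.mk v)
    have h1 := Nat.card_le_card_of_injective σ hσ
    have h3 : Nat.card (AddChar (Vk ⧸ X) ℂ) = Nat.card (Vk ⧸ X) := by
      have := Fintype.ofFinite (Vk ⧸ X)
      rw [Nat.card_eq_fintype_card, Nat.card_eq_fintype_card, AddChar.card_eq]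
    rw [h3] at h1
    refine (Nat.mul_le_mul_right _ h1).trans (le_of_eq ?_)
    rw [← card_vk, Nat.card_congr (AddSubgroup.addGroupEquivQuotientProdAddSubgroup (s := X)), Nat.card_prod]
  · intro g hg w hw x hx
    have e : (g : Mk) *ᵥ (((g⁻¹ : Spk) : Mk) *ᵥ x) = x := by
      rw [← mul_mulVec_sp, mul_inv_cancel]; exact one_mulVec x
    rw [← e, sympForm_mulVec]
    exact hw _ (hg x hx)

variable (hk : 2 ≤ k) (hq : 3 ≤ Fintype.card F)
  (hH : Nat.card (ptStab : Subgroup (Matrix.symplecticGroup (Fin (k + 1)) F)) < Nat.card H)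

include hk hq hH

/-- A proper Levi image forces large translation and central parts. -/
theorem large_parts (hIH : ∀ I : Subgroup Spk, I ≠ ⊤ → Nat.card I * nPts (Fintype.card F) (2 * k) ≤ Nat.card Spk)
    (hsym : symPart H ≠ ⊤) :
    Fintype.card F ^ (2 * k + 1) < (Fintype.card F ^ 2 + 1) * (Nat.card (trPart H) * Nat.card (zPart H)) := by
  have hkey := key_lt H hH
  rw [natCard_levPart] at hkey
  have hI := hIH _ hsym
  have hA := card_torPart_le H
  rw [show 2 * (k + 1) = 2 * k + 2 by ring, nPts_add_two] at hkey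
  have hN : Fintype.card F + 1 ≤ nPts (Fintype.card F) (2 * k) := by
    refine le_trans ?_ (Finset.sum_le_sum_of_subset
      (Finset.range_mono (show 2 ≤ 2 * k by omega)))
    simp [Finset.sum_range_succ, add_comm]
  set q := Fintype.card F
  set Nk := nPts q (2 * k)
  set M := Nat.card Spk
  set P := q ^ (2 * k + 1)
  set XZ := Nat.card (trPart H) * Nat.card (zPart H)
  set a := Nat.card (torPart H)
  set i := Nat.card (symPart H)
  have hNk : 0 < Nk := by omega
  have h1 : P * Nk * ((q - 1) * M) < ((q ^ 2 + 1) * XZ) * Nk * ((q - 1) * M) :=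
    calc P * Nk * ((q - 1) * M) = P * ((q - 1) * M) * Nk := by ring
      _ < (q ^ 2 * Nk + q + 1) * (XZ * (a * i)) * Nk := Nat.mul_lt_mul_of_pos_right hkey hNk
      _ ≤ ((q ^ 2 + 1) * Nk) * (XZ * (a * i)) * Nk := by
          refine Nat.mul_le_mul_right _ (Nat.mul_le_mul_right _ ?_)
          rw [add_mul, one_mul]
          omega
      _ = ((q ^ 2 + 1) * XZ) * Nk * (a * (i * Nk)) := by ring
      _ ≤ _ := Nat.mul_le_mul_left _ (Nat.mul_le_mul hA hI)
  exact Nat.lt_of_mul_lt_mul_right (Nat.lt_of_mul_lt_mul_right h1)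

omit hq in
/-- Six dimensions over the field with three elements. -/
theorem false_of_card_three (hq3 : Fintype.card F = 3) (hk2 : k = 2) (hz : zPart H ≠ ⊤)
    (hsym : symPart H ≠ ⊤) : False := by
  classical
  have hodd : (2 : F) ≠ 0 := fun h2 => by
    have h0 := FiniteField.cast_card_eq_zero F
    rw [hq3] at h0
    push_cast at h0
    exact one_ne_zero (α := F) (by linear_combination h0 - h2)
  have hkey := key_lt H hH
  rw [natCard_levPart] at hkey
  have hA := card_torPart_le H
  have hX := card_trPart_sq_le H hodd hz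
  obtain ⟨-, hZ⟩ := two_mul_card_le (zPart H) hz
  have hZ := hZ hodd
  rw [hq3] at hkey hA hX hZ
  rw [show 2 * k = 4 by omega] at hX
  have hN : nPts 3 (2 * (k + 1)) = 364 := by rw [hk2]; rfl
  have hP : (3 : ℕ) ^ (2 * k + 1) = 243 := by rw [hk2]; rfl
  rw [hN, hP] at hkey
  set X := Nat.card (trPart H) with hXdef
  set M := Nat.card Spk with hM
  set i := Nat.card (symPart H) with hi
  have hX9 : X ≤ 9 := by nlinarith
  have hZ1 : Nat.card (zPart H) = 1 := le_antisymm (by omega) Nat.card_pos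
  rw [hZ1, mul_one] at hkey
  have hmain : 243 * M < 364 * (X * i) := by
    have h1 : 243 * (2 * M) < 364 * (X * (2 * i)) :=
      calc 243 * (2 * M) = 243 * ((3 - 1) * M) := by norm_num
        _ < 364 * (X * (Nat.card (torPart H) * i)) := hkey
        _ ≤ _ := Nat.mul_le_mul_left _ (Nat.mul_le_mul_left _ (Nat.mul_le_mul_right _ hA))
    nlinarith
  have hlag : ∀ {S : Type _} [Group S] [Finite S] (T : Subgroup S), T ≠ ⊤ → 2 * Nat.card T ≤ Nat.card S := by
    intro S _ _ T hT
    rw [← T.card_mul_index, mul_comm]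
    refine Nat.mul_le_mul_left _ ?_
    have h1 : T.index ≠ 1 := fun h => hT (Subgroup.index_eq_one.1 h)
    have h0 : T.index ≠ 0 := Subgroup.index_ne_zero_of_finite
    omega
  have h2i : 2 * i ≤ M := hlag _ hsym
  have hMpos : 0 < M := Nat.card_pos
  obtain ⟨x, hx, hx0⟩ : ∃ x ∈ trPart H, x ≠ 0 := by
    by_contra hc
    push Not at hc
    have h0 : X = 1 := by
      rw [hXdef, (AddSubgroup.eq_bot_iff_forall _).2 hc, AddSubgroup.card_bot]
    rw [h0] at hmain
    omega
  set St := MulAction.stabilizer Spk (x : Vk) with hSt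
  have horb : MulAction.orbit Spk x = {y : Vk | y ≠ 0} := by
    ext y
    refine ⟨?_, fun hy => ?_⟩
    · rintro ⟨g, rfl⟩
      exact (smul_ne_zero_iff_ne g).2 hx0
    · obtain ⟨g, hg⟩ := Symplectic.exists_move hx0 hy
      exact ⟨g, hg⟩
  have hMSt : M = 80 * Nat.card St := by
    rw [hM, ← Nat.card_congr (MulAction.orbitProdStabilizerEquivGroup Spk x), Nat.card_prod, horb]
    congr 1
    rw [show ({y : Vk | y ≠ 0} : Set Vk) = ({0}ᶜ : Set Vk) from rfl, Nat.card_coe_set_eq, Set.ncard_compl,
      Set.ncard_singleton, card_vk, hq3, hk2]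
    rfl
  have hi' : i ≤ (X - 1) * Nat.card (symPart H ⊓ St : Subgroup Spk) := by
    rw [hi, ← Nat.card_congr (MulAction.orbitProdStabilizerEquivGroup (symPart H) x), Nat.card_prod]
    refine Nat.mul_le_mul ?_ (le_of_eq ?_)
    · have h1 : MulAction.orbit (symPart H) x ⊆ (trPart H : Set Vk) \ {0} := by
        rintro _ ⟨g, rfl⟩
        exact ⟨smul_mulVec_mem_trPart H g.2 hx, (smul_ne_zero_iff_ne (g : Spk)).2 hx0⟩
      have h2 := Set.ncard_le_ncard h1 (Set.toFinite _)
      rw [Set.ncard_sdiff_singleton_of_mem (zero_mem (trPart H)), ← Nat.card_coe_set_eq,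
        ← Nat.card_coe_set_eq] at h2
      exact h2
    · refine Nat.card_congr
        { toFun := fun g => ⟨g.1.1, g.1.2, g.2⟩
          invFun := fun g => ⟨⟨g.1, g.2.1⟩, g.2.2⟩
          left_inv := fun g => rfl
          right_inv := fun g => rfl }
  by_cases hX3 : X ≤ 3
  · have h4 : Nat.card (symPart H ⊓ St : Subgroup Spk) ≤ Nat.card St := Subgroup.card_le_of_le inf_le_right
    have : X * i ≤ 3 * (2 * Nat.card St) := Nat.mul_le_mul hX3 (hi'.trans (Nat.mul_le_mul (by omega) h4))
    omega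
  · have hproper : (symPart H).subgroupOf St ≠ ⊤ := by
      intro htop
      rw [Subgroup.subgroupOf_eq_top] at htop
      obtain ⟨y, hy, hyx⟩ : ∃ y ∈ trPart H, ∀ t : F, y ≠ t • x := by
        by_contra hc
        push Not at hc
        choose t ht using fun y : trPart H => hc y y.2
        have h5 := Nat.card_le_card_of_injective (fun y : trPart H => t y) fun a b e =>
          Subtype.ext (by rw [ht a, ht b]; simp only at e; rw [e])
        rw [← hXdef, Nat.card_eq_fintype_card, hq3] at h5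
        omega
      have hxy : fk x y = 0 := by
        have h1 := half_mem hodd _ (two_mul_form_mem H hx hy)
        have h2 : zPart H = ⊥ := AddSubgroup.eq_bot_of_card_eq _ hZ1
        rwa [h2, AddSubgroup.mem_bot] at h1
      obtain ⟨u, hxu, hyu⟩ : ∃ u, fk x u = 0 ∧ fk y u ≠ 0 := by
        by_contra hc
        push Not at hc
        obtain ⟨u, hu⟩ := Symplectic.exists_partner hx0
        refine hyx (fk y u) (sub_eq_zero.1 (fk_nondeg fun v => ?_))
        have h1 := hc (v - fk x v • u) (by
          rw [sub_eq_add_neg, ← neg_smul, Symplectic.f_add_right, Symplectic.f_smul_right, hu]; ring)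
        rw [sub_eq_add_neg, ← neg_smul, Symplectic.f_add_right, Symplectic.f_smul_right] at h1
        rw [sub_eq_add_neg, ← neg_smul, Symplectic.f_add_left, Symplectic.f_smul_left]
        linear_combination h1
      have hmem : tv u 1 ∈ symPart H := htop (by
        show ((tv u 1 : Spk) : Mk) *ᵥ x = x
        rw [tv_mulVec, hxu]; simp)
      have h6 := smul_mulVec_mem_trPart H hmem hy
      rw [tv_mulVec, one_mul] at h6
      have h7 : fk y u • u ∈ trPart H := by simpa using sub_mem h6 hy
      have h8 := half_mem hodd _ (two_mul_form_mem H hy h7)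
      rw [AddSubgroup.eq_bot_of_card_eq _ hZ1, AddSubgroup.mem_bot, Symplectic.f_smul_right] at h8
      exact hyu (mul_self_eq_zero.1 h8)
    have h4 := hlag _ hproper
    have e : Nat.card ((symPart H).subgroupOf St) = Nat.card (symPart H ⊓ St : Subgroup Spk) := by
      rw [← Subgroup.inf_subgroupOf_right (symPart H) St]
      exact Nat.card_congr (Subgroup.subgroupOfEquivOfLe inf_le_right).toEquiv
    rw [e] at h4
    have h5 : 2 * i ≤ 8 * Nat.card St :=
      calc 2 * i ≤ 2 * ((X - 1) * Nat.card (symPart H ⊓ St : Subgroup Spk)) := Nat.mul_le_mul_left _ hi'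
        _ = (X - 1) * (2 * Nat.card (symPart H ⊓ St : Subgroup Spk)) := by ring
        _ ≤ _ := Nat.mul_le_mul (by omega) h4
    have : X * (2 * i) ≤ 9 * (8 * Nat.card St) := Nat.mul_le_mul hX9 h5
    nlinarith

/-- The Levi image contains many elements fixing `u` and moving `w`. -/
theorem orbit_large (hIH : ∀ I : Subgroup Spk, I ≠ ⊤ → Nat.card I * nPts (Fintype.card F) (2 * k) ≤ Nat.card Spk)
    (hB : ∀ A : Sp, zPart (conjBy H A) ≠ ⊤ → symPart (conjBy H A) ≠ ⊤)
    {u w : Vk} (hu : u ≠ 0) (huw : fk u w ≠ 0) :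
    Fintype.card F ≤ Nat.card {y : Vk // ∃ g ∈ symPart H, (g : Mk) *ᵥ u = u ∧ (g : Mk) *ᵥ w = y} := by
  classical
  set O := {y : Vk // ∃ g ∈ symPart H, (g : Mk) *ᵥ u = u ∧ (g : Mk) *ᵥ w = y}
  have hemb0 : emb u ≠ 0 := fun e => hu (by simpa using congrArg res e)
  obtain ⟨A, hA⟩ := Symplectic.exists_move (eP_ne_zero (F := F) (k := k)) hemb0
  set H' := conjBy H A⁻¹ with hH'
  have hmem : ∀ B : Sp, B ∈ H' ↔ A * B * A⁻¹ ∈ H := fun B => by rw [hH', mem_conjBy, inv_inv]
  by_cases hz : zPart H' = ⊤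
  · have htv : ∀ c : F, tv u c ∈ symPart H := fun c => by
      rw [mem_symPart, mem_levPart]
      refine ⟨0, 0, ?_⟩
      rw [uu_zero, one_mul, levi_one_tv, ← hA, ← Symplectic.tv_conj, ← uu_zero_eq_tv, ← hmem]
      exact (mem_zPart H').1 (hz ▸ AddSubgroup.mem_top c)
    rw [← Nat.card_eq_fintype_card]
    refine Nat.card_le_card_of_injective (fun c : F => (⟨w + (c * fk w u) • u, tv u c, htv c, ?_, ?_⟩ : O)) ?_
    · rw [tv_mulVec, sympForm_self]; simp
    · rw [tv_mulVec]
    · intro c d e
      have e' := congrArg Subtype.val e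
      simp only at e'
      have h1 := smul_left_injective F hu (add_left_cancel e')
      have hwu : fk w u ≠ 0 := by rw [sympForm_swap u w, neg_ne_zero]; exact huw
      exact mul_right_cancel₀ hwu h1
  have hH'c : Nat.card (ptStab : Subgroup Sp) < Nat.card H' := natCard_conjBy_lt H A⁻¹ hH
  have hJ := large_parts H' hk hq hH'c hIH (hB A⁻¹ hz)
  set p : Vec := ((A⁻¹ : Sp) : Mat) *ᵥ eP with hp
  set x : Vec := ((A⁻¹ : Sp) : Mat) *ᵥ emb w with hx
  have hAp : (A : Mat) *ᵥ p = eP := by rw [hp, ← mul_mulVec_sp, mul_inv_cancel]; exact one_mulVec _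
  have hAx : (A : Mat) *ᵥ x = emb w := by rw [hx, ← mul_mulVec_sp, mul_inv_cancel]; exact one_mulVec _
  have hpl : p (Sum.inl 0) = 0 := by
    have h := sympForm_mulVec A eP p
    rw [hA, hAp, form_eq, form_eq] at h
    simpa using h.symm
  have hxl : x (Sum.inl 0) ≠ 0 := by
    have h := sympForm_mulVec A eP x
    rw [hA, hAx, form_emb, form_eq] at h
    simp at h
    rw [← h]; exact huw
  -- the translations fixing `p`
  let φ : trPart H' →+ F :=
    { toFun := fun v => fk (res p) (v : Vk)
      map_zero' := by simp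
      map_add' := fun a b => by simp [Symplectic.f_add_right] }
  choose sec hsec using fun v : trPart H' => v.2
  have hker : Nat.card (trPart H') ≤ Fintype.card F * Nat.card φ.ker := by
    rw [← φ.ker.card_mul_index, AddSubgroup.index_ker, mul_comm]
    refine Nat.mul_le_mul_right _ ((Finite.card_subtype_le _).trans (le_of_eq Nat.card_eq_fintype_card))
  let el : φ.ker × zPart H' → Sp := fun b => uu ((b.1 : trPart H') : Vk) (sec b.1 + (b.2 : F))
  have hel : ∀ b, el b ∈ H' := fun b => by
    have := mul_mem (hsec b.1) ((mem_zPart H').1 b.2.2)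
    rwa [uu_mul, fk_zero_left, add_zero, add_zero] at this
  have help : ∀ b, (el b : Mat) *ᵥ p = p := fun b => by
    have h0 : fk (res p) ((b.1 : trPart H') : Vk) = 0 := b.1.2
    refine vec_ext ?_ ?_ ?_ <;> simp [el, hpl, h0]
  have hprop : ∀ b, ∃ g ∈ symPart H, (g : Mk) *ᵥ u = u ∧
      (g : Mk) *ᵥ w = res ((A : Mat) *ᵥ ((el b : Mat) *ᵥ x)) := by
    intro b
    set B := A * el b * A⁻¹ with hBdef
    have hBH : B ∈ H := (hmem _).1 (hel b)
    have hBe : (B : Mat) *ᵥ eP = eP := by
      rw [hBdef, mul_mulVec_sp, mul_mulVec_sp, ← hp, help, hAp]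
    obtain ⟨v, z, a, g, hdec⟩ := exists_decomp (mem_ptStab.2 ⟨1, by rw [hBe, one_smul]⟩ : B ∈ (ptStab : Subgroup Sp))
    have ha : a = 1 := by
      have := congrFun hBe (Sum.inr 0)
      rw [hdec, mul_mulVec_sp] at this
      simp [-Matrix.mulVec_mulVec] at this
      exact this
    subst ha
    refine ⟨g, (mem_symPart H).2 ((mem_levPart H).2 ⟨v, z, hdec ▸ hBH⟩), ?_, ?_⟩
    · have h1 : (B : Mat) *ᵥ emb u = emb u := by
        rw [hBdef, mul_mulVec_sp, mul_mulVec_sp, show ((A⁻¹ : Sp) : Mat) *ᵥ emb u = eP from inv_mulVec_of_eq hA,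
          show (el b : Mat) *ᵥ eP = eP from vec_ext (by simp [el]) (by simp [el]) (by simp [el]), hA]
      have := congrArg res h1
      rw [hdec, mul_mulVec_sp] at this
      simpa [-Matrix.mulVec_mulVec] using this
    · have h1 : res ((B : Mat) *ᵥ emb w) = (g : Mk) *ᵥ w := by
        rw [hdec, mul_mulVec_sp]; simp [-Matrix.mulVec_mulVec]
      rw [← h1, hBdef, mul_mulVec_sp, mul_mulVec_sp, ← hx]
  let Φ : φ.ker × zPart H' → O × F := fun b =>
    (⟨res ((A : Mat) *ᵥ ((el b : Mat) *ᵥ x)), hprop b⟩, ((A : Mat) *ᵥ ((el b : Mat) *ᵥ x)) (Sum.inr 0))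
  have hΦ : Function.Injective Φ := by
    intro b c e
    simp only [Φ, Prod.mk.injEq, Subtype.mk.injEq] at e
    have hinl : ∀ b, ((A : Mat) *ᵥ ((el b : Mat) *ᵥ x)) (Sum.inl 0) = f eP ((A : Mat) *ᵥ x) := fun b => by
      have h1 := sympForm_mulVec (A * el b) p x
      rw [mul_mulVec_sp, mul_mulVec_sp, help, ← sympForm_mulVec A p x, hAp] at h1
      rw [← h1, form_eq]
      simp
    have hA2 := vec_ext e.2 ((hinl b).trans (hinl c).symm) (congrArg Subtype.val e.1)
    have hux : (el b : Mat) *ᵥ x = (el c : Mat) *ᵥ x := by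
      have h2 := congrArg (fun y => ((A⁻¹ : Sp) : Mat) *ᵥ y) hA2
      simp only [← mul_mulVec_sp, inv_mul_cancel_left] at h2
      exact h2
    have h3 := congrArg res hux
    simp [el] at h3
    have hb1 : b.1 = c.1 := by
      exact Subtype.ext (Subtype.ext (smul_right_injective _ hxl h3))
    have h4 := congrFun hux (Sum.inr 0)
    simp [el, hb1] at h4
    rcases h4 with h4 | h4
    · exact Prod.ext hb1 h4
    · exact absurd h4 hxl
  have hcount := Nat.card_le_card_of_injective Φ hΦ
  rw [Nat.card_prod, Nat.card_prod, Nat.card_eq_fintype_card (α := F)] at hcount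
  set q := Fintype.card F
  set o := Nat.card O
  by_contra hc
  push Not at hc
  have h5 : q ^ 5 ≤ q ^ (2 * k + 1) := Nat.pow_le_pow_right (by omega) (by omega)
  have h6 : Nat.card (trPart H') * Nat.card (zPart H') ≤ q * q * o :=
    calc Nat.card (trPart H') * Nat.card (zPart H') ≤ q * Nat.card φ.ker * Nat.card (zPart H') :=
          Nat.mul_le_mul_right _ hker
      _ = q * (Nat.card φ.ker * Nat.card (zPart H')) := by ring
      _ ≤ q * (o * q) := Nat.mul_le_mul_left _ hcount
      _ = _ := by ring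
  have h7 : q ^ 5 < (q ^ 2 + 1) * (q * q * o) := lt_of_le_of_lt h5 (hJ.trans_le (Nat.mul_le_mul_left _ h6))
  have h8 : (q ^ 2 + 1) * (q * q * o) ≤ (q ^ 2 + 1) * (q * q * (q - 1)) :=
    Nat.mul_le_mul_left _ (Nat.mul_le_mul_left _ (by omega))
  obtain ⟨s, hs⟩ : ∃ s, q = s + 1 := ⟨q - 1, by omega⟩
  rw [hs, Nat.add_sub_cancel] at h8
  rw [hs] at h7
  have h9 := h7.trans_le h8
  rw [show (s + 1) ^ 5 = (s + 1) ^ 3 * ((s + 1) * (s + 1)) by ring,
    show ((s + 1) ^ 2 + 1) * ((s + 1) * (s + 1) * s) = ((s + 1) ^ 2 + 1) * s * ((s + 1) * (s + 1)) by ring] at h9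
  have := Nat.lt_of_mul_lt_mul_right h9
  nlinarith

/-- In characteristic two the translation part is everything. -/
theorem trPart_eq_top_even (hq4 : 4 ≤ Fintype.card F)
    (hIH : ∀ I : Subgroup Spk, I ≠ ⊤ → Nat.card I * nPts (Fintype.card F) (2 * k) ≤ Nat.card Spk)
    (hB : ∀ A : Sp, zPart (conjBy H A) ≠ ⊤ → symPart (conjBy H A) ≠ ⊤) (hz : zPart H ≠ ⊤) :
    trPart H = ⊤ := by
  classical
  by_contra hX
  have hsym : symPart H ≠ ⊤ := by
    have h1 : conjBy H 1 = H := by ext B; simp [mem_conjBy]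
    have := hB 1 (by rwa [h1])
    rwa [h1] at this
  have hJ := large_parts H hk hq hH hIH hsym
  obtain ⟨hZ, -⟩ := two_mul_card_le (zPart H) hz
  obtain ⟨G, hG, hGX, hGinv⟩ := exists_annihilator (trPart H) hX
  have hinv : ∀ g ∈ symPart H, ∀ w ∈ G, (g : Mk) *ᵥ w ∈ G := fun g hg =>
    hGinv g fun x hx => smul_mulVec_mem_trPart H (inv_mem hg) hx
  set q := Fintype.card F with hqdef
  set v := Nat.card G with hv
  have hv2 : 2 ≤ v := by
    rcases (show v = 1 ∨ 2 ≤ v by have := Nat.card_pos (α := G); omega) with h | h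
    · exact absurd (AddSubgroup.eq_bot_of_card_eq _ h) hG
    · exact h
  have hvq : 2 * v ≤ q ^ 2 := by
    have h1 : 2 * (q ^ (2 * k) * q) < (q ^ 2 + 1) * (Nat.card (trPart H) * q) :=
      calc 2 * (q ^ (2 * k) * q) = 2 * q ^ (2 * k + 1) := by rw [pow_succ]
        _ < 2 * ((q ^ 2 + 1) * (Nat.card (trPart H) * Nat.card (zPart H))) :=
          Nat.mul_lt_mul_of_pos_left hJ two_pos
        _ = (q ^ 2 + 1) * (Nat.card (trPart H) * (2 * Nat.card (zPart H))) := by ring
        _ ≤ _ := Nat.mul_le_mul_left _ (Nat.mul_le_mul_left _ hZ)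
    have h2 : 2 * q ^ (2 * k) < (q ^ 2 + 1) * Nat.card (trPart H) := by
      refine Nat.lt_of_mul_lt_mul_right (a := q) ?_
      linarith
    have h3 : (2 * v) * Nat.card (trPart H) < (q ^ 2 + 1) * Nat.card (trPart H) :=
      lt_of_le_of_lt (by rw [mul_assoc]; exact Nat.mul_le_mul_left _ hGX) h2
    have := Nat.lt_of_mul_lt_mul_right h3
    omega
  -- a small kernel
  obtain ⟨u, hu, hsmall⟩ : ∃ u : Vk, u ≠ 0 ∧ q * Nat.card {g : G // fk u (g : Vk) = 0} < q + v := by
    by_contra hc
    push Not at hc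
    have hsum : ∑ u : Vk, q * Nat.card {g : G // fk u (g : Vk) = 0} =
        ∑ g : G, q * Nat.card {u : Vk // fk u (g : Vk) = 0} := by
      rw [← Finset.mul_sum, ← Finset.mul_sum]
      congr 1
      simp only [Nat.card_eq_fintype_card, Fintype.card_subtype, Finset.card_filter]
      exact Finset.sum_comm
    have hg : ∀ g : G, q * Nat.card {u : Vk // fk u (g : Vk) = 0} =
        if g = 0 then q * q ^ (2 * k) else q ^ (2 * k) := by
      intro g
      split_ifs with h0
      · subst h0
        rw [Nat.card_congr (Equiv.subtypeUnivEquiv (p := fun u : Vk => fk u ((0 : G) : Vk) = 0) fun u => by simp),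
          card_vk]
      · have hne : (sympB k F (g : Vk)) ≠ 0 := fun e => by
          refine h0 (Subtype.ext (fk_nondeg fun y => ?_))
          rw [← sympB_apply, e]; rfl
        have h1 := Iwasawa.natCard_mul_fiber (sympB k F (g : Vk)) hne (0 : F)
        rw [Nat.card_eq_fintype_card (α := F), card_vk] at h1
        rw [← h1, mul_comm]
        congr 1
        refine Nat.card_congr (Equiv.subtypeEquivRight fun y => ?_)
        rw [sympB_apply, sympForm_swap y (g : Vk), neg_eq_zero]
    have hR : ∑ g : G, q * Nat.card {u : Vk // fk u (g : Vk) = 0} + q ^ (2 * k) =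
        q * q ^ (2 * k) + v * q ^ (2 * k) := by
      rw [Finset.sum_congr rfl fun g _ => hg g, ← Finset.add_sum_erase _ _ (Finset.mem_univ (0 : G)),
        if_pos rfl, Finset.sum_congr rfl fun g hg => if_neg (Finset.ne_of_mem_erase hg), Finset.sum_const,
        smul_eq_mul, Finset.card_erase_of_mem (Finset.mem_univ _), Finset.card_univ, ← Nat.card_eq_fintype_card,
        ← hv, add_assoc, ← Nat.succ_mul, Nat.succ_eq_add_one, Nat.sub_add_cancel (by omega)]
    have hL : q * v + (q ^ (2 * k) - 1) * (q + v) ≤ ∑ u : Vk, q * Nat.card {g : G // fk u (g : Vk) = 0} := by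
      rw [← Finset.add_sum_erase _ _ (Finset.mem_univ (0 : Vk))]
      refine Nat.add_le_add (le_of_eq ?_) ?_
      · rw [Nat.card_congr (Equiv.subtypeUnivEquiv (p := fun g : G => fk 0 (g : Vk) = 0) fun g => by simp)]
      · refine le_trans (le_of_eq ?_) (Finset.card_nsmul_le_sum _ _ (q + v) fun u hu =>
          hc u (Finset.ne_of_mem_erase hu))
        rw [smul_eq_mul, Finset.card_erase_of_mem (Finset.mem_univ _), Finset.card_univ,
          ← Nat.card_eq_fintype_card, card_vk]
    obtain ⟨T, hT⟩ : ∃ T, q ^ (2 * k) = T + 1 := ⟨q ^ (2 * k) - 1, by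
      have := Nat.one_le_pow (2 * k) q (by omega); omega⟩
    rw [hT, Nat.add_sub_cancel] at hL
    rw [hsum] at hL
    rw [hT] at hR
    nlinarith
  -- the kernel is not everything
  obtain ⟨w, hw⟩ : ∃ w : G, fk u (w : Vk) ≠ 0 := by
    by_contra hc
    push Not at hc
    rw [Nat.card_congr (Equiv.subtypeUnivEquiv hc), ← hv] at hsmall
    nlinarith
  have horb := orbit_large H hk hq hH hIH hB hu hw
  let ι' : {y : Vk // ∃ g ∈ symPart H, (g : Mk) *ᵥ u = u ∧ (g : Mk) *ᵥ (w : Vk) = y} →
      {g : G // fk u (g : Vk) = 0} := fun y =>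
    ⟨⟨(y : Vk), by obtain ⟨g, hg, -, e⟩ := y.2; rw [← e]; exact hinv g hg _ w.2⟩ - w, by
      obtain ⟨g, hg, hgu, e⟩ := y.2
      have h1 : fk u (y : Vk) = fk u (w : Vk) := by
        rw [← e]
        conv_lhs => rw [← hgu]
        exact sympForm_mulVec g _ _
      simp only [AddSubgroup.coe_sub]
      rw [sub_eq_add_neg, ← neg_one_smul F (w : Vk), Symplectic.f_add_right, Symplectic.f_smul_right, h1]
      ring⟩
  have hι : Function.Injective ι' := fun a b e => by
    have h1 := congrArg (fun g => ((g : {g : G // fk u (g : Vk) = 0}) : G)) e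
    simp only [ι', sub_left_inj, Subtype.mk.injEq] at h1
    exact Subtype.ext h1
  have h9 := horb.trans (Nat.card_le_card_of_injective ι' hι)
  have : q * q ≤ q * Nat.card {g : G // fk u (g : Vk) = 0} := Nat.mul_le_mul_left _ h9
  nlinarith

/-- The inductive step. -/
theorem eq_top_step (hIH : ¬ (k = 2 ∧ Fintype.card F = 3) →
    ∀ I : Subgroup Spk, I ≠ ⊤ → Nat.card I * nPts (Fintype.card F) (2 * k) ≤ Nat.card Spk) : H = ⊤ := by
  classical
  by_contra hne
  have hperf : commutator Spk = ⊤ := Symplectic.commutator_eq_top (by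
    rcases Nat.eq_or_lt_of_le hk with h2 | h3
    · refine Or.inr (Or.inl ⟨h2.symm, ?_⟩)
      by_contra hc
      push Not at hc
      have hle : (Finset.univ : Finset F).card ≤ ({0, 1} : Finset F).card :=
        Finset.card_le_card fun t _ => by
          by_cases ht : t = 0
          · simp [ht]
          · simp [hc t ht]
      have := hle.trans Finset.card_le_two
      rw [Finset.card_univ] at this
      omega
    · exact Or.inl h3)
  have hB : ∀ A : Sp, zPart (conjBy H A) ≠ ⊤ → symPart (conjBy H A) ≠ ⊤ := fun A hz hsym =>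
    conjBy_ne_top H hne (eq_top_of_symPart_top _ (by omega) hq hperf hz hsym (natCard_conjBy_lt H A hH))
  obtain ⟨A₀, hA₀⟩ := exists_zPart_ne_top H hne
  by_cases hspec : k = 2 ∧ Fintype.card F = 3
  · exact false_of_card_three (conjBy H A₀) hk (natCard_conjBy_lt H A₀ hH) hspec.2 hspec.1 hA₀ (hB _ hA₀)
  by_cases h2 : (2 : F) = 0
  · have hq4 : 4 ≤ Fintype.card F := by
      by_contra hc
      have h3 : Fintype.card F = 3 := by omega
      have h0 := FiniteField.cast_card_eq_zero F
      rw [h3] at h0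
      push_cast at h0
      exact one_ne_zero (α := F) (by linear_combination h0 - h2)
    have hall : ∀ A : Sp, zPart (conjBy H A) ≠ ⊤ → trPart (conjBy H A) = ⊤ := fun A hz =>
      trPart_eq_top_even (conjBy H A) hk hq (natCard_conjBy_lt H A hH) hq4 (hIH hspec)
        (fun B hB' => by rw [conjBy_conjBy] at hB' ⊢; exact hB _ hB') hz
    exact false_of_trPart_top (conjBy H A₀) (by omega) hq4 h2 hA₀ (hall _ hA₀)
      fun B hB' => by rw [conjBy_conjBy] at hB' ⊢; exact hall _ hB'
  · have hJ := large_parts (conjBy H A₀) hk hq (natCard_conjBy_lt H A₀ hH) (hIH hspec) (hB _ hA₀)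
    have hX := card_trPart_sq_le (conjBy H A₀) h2 hA₀
    obtain ⟨-, hZ⟩ := two_mul_card_le (zPart (conjBy H A₀)) hA₀
    have hZ := hZ h2
    set q := Fintype.card F
    set X := Nat.card (trPart (conjBy H A₀))
    set Z := Nat.card (zPart (conjBy H A₀))
    have hX' : X ≤ q ^ k := by
      by_contra hc
      push Not at hc
      have := Nat.mul_lt_mul'' hc hc
      rw [← pow_add, ← two_mul] at this
      omega
    have h1 : 3 * q ^ (2 * k + 1) < (q ^ 2 + 1) * (q ^ k * q) :=
      calc 3 * q ^ (2 * k + 1) < 3 * ((q ^ 2 + 1) * (X * Z)) := Nat.mul_lt_mul_of_pos_left hJ (by norm_num)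
        _ = (q ^ 2 + 1) * (X * (3 * Z)) := by ring
        _ ≤ _ := Nat.mul_le_mul_left _ (Nat.mul_le_mul hX' hZ)
    have h2' : q ^ 2 ≤ q ^ k := Nat.pow_le_pow_right (by omega) hk
    have h3 : q ^ (2 * k + 1) = q ^ k * (q ^ k * q) := by rw [pow_succ, two_mul, pow_add]; ring
    rw [h3] at h1
    have : 3 * q ^ k * (q ^ k * q) < (q ^ 2 + 1) * (q ^ k * q) := by linarith
    have := Nat.lt_of_mul_lt_mul_right this
    nlinarith

end Cfsg.Agent.Classical.PSpMinIndex
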