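import Mathlib
import Cfsg.Agent.Lib.Classical.PSpMinIndex.Induct

/-!
# Dimension four

A proper subgroup of the four dimensional symplectic group over a field with at least four elements is not
larger than a point stabiliser.
-/

set_option autoImplicit false
set_option linter.unusedSectionVars false

namespace Cfsg.Agent.Classical.PSpMinIndex

open Matrix
open scoped LinearAlgebra.Projectivization
open Cfsg.Agent.Forms.SympStd
open Cfsg.Agent.Classical.Symplectic
open scoped commutatorElement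

variable {F : Type*} [Field F] [Fintype F]

local notation "V₁" => (Fin 1 ⊕ Fin 1 → F)
local notation "M₁" => Matrix (Fin 1 ⊕ Fin 1) (Fin 1 ⊕ Fin 1) F
local notation "Sp₁" => Matrix.symplecticGroup (Fin 1) F
local notation "Sp₂" => Matrix.symplecticGroup (Fin (1 + 1)) F
local notation "f₁" => Cfsg.sympForm 1 F

theorem exists_smul_eq {x v : V₁} (hx : x ≠ 0) (h : f₁ x v = 0) : ∃ t : F, v = t • x := by
  obtain ⟨y, hy⟩ := Symplectic.exists_partner hx
  rw [sympForm_eq, Fin.sum_univ_one] at h hy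
  refine ⟨v (Sum.inr 0) * y (Sum.inl 0) - v (Sum.inl 0) * y (Sum.inr 0), ?_⟩
  ext (i | i) <;> obtain rfl := Subsingleton.elim i 0
  · simp only [Pi.smul_apply, smul_eq_mul]
    linear_combination (-v (Sum.inl 0)) * hy + y (Sum.inl 0) * h
  · simp only [Pi.smul_apply, smul_eq_mul]
    linear_combination (-v (Sum.inr 0)) * hy + y (Sum.inr 0) * h

theorem exists_comb {x y : V₁} (hxy : f₁ x y ≠ 0) (v : V₁) : ∃ a b : F, v = a • x + b • y := by
  have hx : x ≠ 0 := fun e => hxy (by rw [e, fk_zero_left])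
  obtain ⟨t, ht⟩ := exists_smul_eq hx (v := v + (-(f₁ x v / f₁ x y)) • y) (by
    rw [Symplectic.f_add_right, Symplectic.f_smul_right]; field_simp; ring)
  refine ⟨t, f₁ x v / f₁ x y, ?_⟩
  rw [← ht, neg_smul]
  abel

/-- The elements of a group fixing `x` are few. -/
theorem natCard_fix_le_line (X : AddSubgroup V₁) (I : Subgroup Sp₁)
    (hinv : ∀ g ∈ I, ∀ v ∈ X, (g : M₁) *ᵥ v ∈ X) {x y : V₁} (hy : y ∈ X) (hxy : f₁ x y ≠ 0) :
    Nat.card {g : Sp₁ // g ∈ I ∧ (g : M₁) *ᵥ x = x} ≤ Nat.card {v : V₁ // v ∈ X ∧ ∃ t : F, v = t • x} := by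
  classical
  have hx : x ≠ 0 := fun e => hxy (by rw [e, fk_zero_left])
  refine Nat.card_le_card_of_injective (fun g => ⟨(g.1 : M₁) *ᵥ y - y, sub_mem (hinv g.1 g.2.1 y hy) hy,
    exists_smul_eq hx ?_⟩) ?_
  · rw [sub_eq_add_neg, ← neg_one_smul F y, Symplectic.f_add_right, Symplectic.f_smul_right]
    nth_rw 1 [← g.2.2]
    rw [sympForm_mulVec]
    ring
  · intro g g' e
    simp only [Subtype.mk.injEq, sub_left_inj] at e
    refine Subtype.ext (sp_ext fun v => ?_)
    obtain ⟨a, b, rfl⟩ := exists_comb hxy v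
    rw [Matrix.mulVec_add, Matrix.mulVec_add, Matrix.mulVec_smul, Matrix.mulVec_smul, Matrix.mulVec_smul,
      Matrix.mulVec_smul, g.2.2, g'.2.2, e]

theorem natCard_fix_le (I : Subgroup Sp₁) {x : V₁} (hx : x ≠ 0) :
    Nat.card {g : Sp₁ // g ∈ I ∧ (g : M₁) *ᵥ x = x} ≤ Fintype.card F := by
  classical
  obtain ⟨y, hy⟩ := Symplectic.exists_partner hx
  refine (natCard_fix_le_line ⊤ I (fun _ _ _ _ => AddSubgroup.mem_top _) (AddSubgroup.mem_top y)
    (by rw [hy]; exact one_ne_zero)).trans ?_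
  rw [← Nat.card_eq_fintype_card]
  refine Nat.card_le_card_of_injective (fun v => v.2.2.choose) fun a b e => Subtype.ext ?_
  rw [a.2.2.choose_spec, b.2.2.choose_spec]
  simp only at e
  rw [e]

/-- An invariant subgroup bounds the group. -/
theorem natCard_le_orbit_mul (X : AddSubgroup V₁) (I : Subgroup Sp₁)
    (hinv : ∀ g ∈ I, ∀ v ∈ X, (g : M₁) *ᵥ v ∈ X) {x : V₁} (hx : x ∈ X) (hx0 : x ≠ 0) {m : ℕ}
    (hm : Nat.card {g : Sp₁ // g ∈ I ∧ (g : M₁) *ᵥ x = x} ≤ m) :
    Nat.card I ≤ (Nat.card X - 1) * m := by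
  classical
  rw [← Nat.card_congr (MulAction.orbitProdStabilizerEquivGroup I x), Nat.card_prod]
  refine Nat.mul_le_mul ?_ (le_trans ?_ hm)
  · have h1 : MulAction.orbit I x ⊆ (X : Set V₁) \ {0} := by
      rintro _ ⟨g, rfl⟩
      exact ⟨hinv g g.2 x hx, (smul_ne_zero_iff_ne (g : Sp₁)).2 hx0⟩
    have h2 := Set.ncard_le_ncard h1 (Set.toFinite _)
    rw [Set.ncard_sdiff_singleton_of_mem (zero_mem X), ← Nat.card_coe_set_eq, ← Nat.card_coe_set_eq] at h2
    exact h2
  · exact Nat.card_le_card_of_injective (fun g => ⟨g.1.1, g.1.2, g.2⟩)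
      fun a b e => Subtype.ext (Subtype.ext (congrArg (fun g => ((g : {g : Sp₁ // _}) : Sp₁)) e))

theorem natCard_sp_two : Nat.card Sp₁ = Fintype.card F * (Fintype.card F * Fintype.card F - 1) := by
  classical
  obtain ⟨x, hx⟩ : ∃ x : V₁, x ≠ 0 := ⟨Pi.single (Sum.inl 0) 1, by simp⟩
  have horb : MulAction.orbit Sp₁ x = ({0}ᶜ : Set V₁) := by
    ext y
    refine ⟨?_, fun hy => ?_⟩
    · rintro ⟨g, rfl⟩
      exact (smul_ne_zero_iff_ne g).2 hx
    · obtain ⟨g, hg⟩ := Symplectic.exists_move hx hy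
      exact ⟨g, hg⟩
  rw [← Nat.card_congr (MulAction.orbitProdStabilizerEquivGroup Sp₁ x), Nat.card_prod, horb,
    Nat.card_coe_set_eq, Set.ncard_compl, Set.ncard_singleton, card_vk, mul_one, pow_two, mul_comm]
  congr 1
  refine le_antisymm ((Nat.card_le_card_of_injective
    (fun g : MulAction.stabilizer Sp₁ x => (⟨g.1, Subgroup.mem_top _, g.2⟩ :
      {g : Sp₁ // g ∈ (⊤ : Subgroup Sp₁) ∧ (g : M₁) *ᵥ x = x}))
    fun a b e => Subtype.ext (congrArg (fun g => ((g : {g : Sp₁ // _}) : Sp₁)) e)).trans (natCard_fix_le ⊤ hx)) ?_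
  rw [← Nat.card_eq_fintype_card]
  obtain ⟨y, hy⟩ := Symplectic.exists_partner hx
  have hyx : f₁ y x ≠ 0 := by rw [sympForm_swap x y, hy]; simp
  refine Nat.card_le_card_of_injective (fun c : F => (⟨tv x c, ?_⟩ : MulAction.stabilizer Sp₁ x)) ?_
  · show ((tv x c : Sp₁) : M₁) *ᵥ x = x
    rw [tv_mulVec, sympForm_self]; simp
  · intro c d e
    have h1 : ((tv x c : Sp₁) : M₁) *ᵥ y = ((tv x d : Sp₁) : M₁) *ᵥ y :=
      congrArg (fun g : MulAction.stabilizer Sp₁ x => ((g : Sp₁) : M₁) *ᵥ y) e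
    rw [tv_mulVec, tv_mulVec] at h1
    exact mul_right_cancel₀ hyx (smul_left_injective F hx (add_left_cancel h1))

theorem exists_sq_ne_one (hq4 : 4 ≤ Fintype.card F) : ∃ b : F, b ≠ 0 ∧ b ^ 2 ≠ 1 := by
  classical
  by_contra hc
  push Not at hc
  have hle : (Finset.univ : Finset F).card ≤ ({0, 1, -1} : Finset F).card := by
    refine Finset.card_le_card fun t _ => ?_
    by_cases ht : t = 0
    · simp [ht]
    · rcases sq_eq_one_iff.1 (hc t ht) with h | h <;> simp [h]
  have := hle.trans Finset.card_le_three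
  rw [Finset.card_univ] at this
  omega

/-- A proper subgroup of a perfect group has index at least three. -/
theorem three_mul_card_le {G : Type*} [Group G] [Finite G] (hperf : commutator G = ⊤) (T : Subgroup G)
    (hT : T ≠ ⊤) : 3 * Nat.card T ≤ Nat.card G := by
  rw [← T.card_mul_index, mul_comm]
  refine Nat.mul_le_mul_left _ ?_
  have h1 : T.index ≠ 1 := fun h => hT (Subgroup.index_eq_one.1 h)
  have h0 : T.index ≠ 0 := Subgroup.index_ne_zero_of_finite
  have h2 : T.index ≠ 2 := fun h => hT (by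
    rw [eq_top_iff, ← hperf, commutator_def, Subgroup.commutator_le]
    intro a _ b _
    simp only [commutatorElement_def, Subgroup.mul_mem_iff_of_index_two h, inv_mem_iff]
    tauto)
  omega

variable (H : Subgroup (Matrix.symplecticGroup (Fin (1 + 1)) F))

theorem zPart_mul_torPart_le' (hq4 : 4 ≤ Fintype.card F) (hz : zPart H ≠ ⊤) :
    Nat.card (zPart H) * Nat.card (torPart H) ≤ 2 * (Fintype.card F - 2) := by
  have hD := (card_le_of_sq_mem (scalarStab (F := F) (zPart H)) (torPart H)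
    fun a ha => torPart_sq_mem H ha).1
  have hZD := (zPart_mul_torPart_le H hz).2.2
  have hA := card_torPart_le H
  have hZ0 : 0 < Nat.card (zPart H) := Nat.card_pos
  set Z := Nat.card (zPart H)
  set A := Nat.card (torPart H)
  set D := Nat.card (scalarStab (F := F) (zPart H))
  rcases (show Z = 1 ∨ 2 ≤ Z by omega) with h | h
  · rw [h, one_mul]
    omega
  · calc Z * A ≤ Z * (2 * (D - 1)) := Nat.mul_le_mul_left _ hD
      _ = 2 * (Z * D - Z) := by rw [← Nat.mul_sub_one, mul_left_comm]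
      _ ≤ _ := by omega

/-- In dimension four the translation part is never proper. -/
theorem false_of_trPart_ne_top (hq4 : 4 ≤ Fintype.card F)
    (hH : Nat.card (ptStab : Subgroup Sp₂) < Nat.card H) (hne : H ≠ ⊤) (hz : zPart H ≠ ⊤)
    (hXtop : trPart H ≠ ⊤) : False := by
  classical
  have hperf : commutator Sp₁ = ⊤ := Symplectic.commutator_eq_top (Or.inr (Or.inr (exists_sq_ne_one hq4)))
  have hsym : symPart H ≠ ⊤ := fun h => hne (eq_top_of_symPart_top H le_rfl (by omega) hperf hz h hH)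
  have hI3 := three_mul_card_le hperf _ hsym
  rw [natCard_sp_two] at hI3
  have hkey := key_lt H hH
  rw [natCard_levPart, natCard_sp_two] at hkey
  have hZA := zPart_mul_torPart_le' H hq4 hz
  set q := Fintype.card F with hq
  set X := Nat.card (trPart H) with hX
  set i := Nat.card (symPart H) with hi
  set Z := Nat.card (zPart H) with hZ
  set A := Nat.card (torPart H) with hA
  obtain ⟨r, hr⟩ : ∃ r, q = r + 4 := ⟨q - 4, by omega⟩
  have hqq : q * q - 1 = (q - 1) * (q + 1) := by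
    rw [mul_comm (q - 1), ← Nat.mul_self_sub_mul_self_eq]
  have hN : nPts q (2 * (1 + 1)) = (q + 1) * (q * q + 1) := by
    simp [nPts, Finset.sum_range_succ]; ring
  rw [hN, hqq] at hkey
  rw [hqq] at hI3
  have hkey' : q ^ 4 * ((q - 1) * (q - 1)) < (q * q + 1) * (X * i * (Z * A)) := by
    refine Nat.lt_of_mul_lt_mul_left (a := q + 1) ?_
    calc (q + 1) * (q ^ 4 * ((q - 1) * (q - 1))) = q ^ (2 * 1 + 1) * ((q - 1) * (q * ((q - 1) * (q + 1)))) := by
          ring
      _ < (q + 1) * (q * q + 1) * (X * Z * (A * i)) := hkey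
      _ = _ := by ring
  have hbig : ∀ C, X * i ≤ C → (q * q + 1) * (C * (2 * (q - 2))) ≤ q ^ 4 * ((q - 1) * (q - 1)) → False := by
    intro C h1 h2
    have h3 : (q * q + 1) * (X * i * (Z * A)) ≤ (q * q + 1) * (C * (2 * (q - 2))) :=
      Nat.mul_le_mul_left _ (Nat.mul_le_mul h1 hZA)
    exact absurd (hkey'.trans_le (h3.trans h2)) (lt_irrefl _)
  have hmain : ∀ s : ℕ, q = s + 2 → (q - 2) * (q * q + 1) ≤ q * q * (q - 1) := by
    intro s hs
    rw [hs, Nat.add_sub_cancel, show s + 2 - 1 = s + 1 by omega]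
    nlinarith
  have hmain := hmain (r + 2) (by omega)
  -- the translation part is not trivial
  obtain ⟨x, hx, hx0⟩ : ∃ x ∈ trPart H, x ≠ 0 := by
    by_contra hc
    push Not at hc
    have h1 : X = 1 := by rw [hX, (AddSubgroup.eq_bot_iff_forall _).2 hc, AddSubgroup.card_bot]
    refine hbig i (by rw [h1, one_mul]) (Nat.le_of_mul_le_mul_left ?_ (show 0 < 3 by norm_num))
    calc 3 * ((q * q + 1) * (i * (2 * (q - 2)))) = (q * q + 1) * (3 * i * (2 * (q - 2))) := by ring
      _ ≤ (q * q + 1) * (q * ((q - 1) * (q + 1)) * (2 * (q - 2))) :=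
        Nat.mul_le_mul_left _ (Nat.mul_le_mul_right _ hI3)
      _ = 2 * q * (q - 1) * (q + 1) * ((q - 2) * (q * q + 1)) := by ring
      _ ≤ 2 * q * (q - 1) * (q + 1) * (q * q * (q - 1)) := Nat.mul_le_mul_left _ hmain
      _ = q ^ 3 * ((q - 1) * (q - 1)) * (2 * (q + 1)) := by ring
      _ ≤ q ^ 3 * ((q - 1) * (q - 1)) * (3 * q) := Nat.mul_le_mul_left _ (by omega)
      _ = _ := by ring
  have hinv : ∀ g ∈ symPart H, ∀ v ∈ trPart H, (g : M₁) *ᵥ v ∈ trPart H :=
    fun g hg v hv => smul_mulVec_mem_trPart H hg hv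
  -- the translation part is small
  have hXq : X ≤ q := by
    by_contra hc
    push Not at hc
    by_cases h2 : (2 : F) = 0
    · obtain ⟨G, hG, hGX, hGinv⟩ := exists_annihilator (trPart H) hXtop
      obtain ⟨u, hu, hu0⟩ : ∃ u ∈ G, u ≠ 0 := by
        by_contra hc'
        push Not at hc'
        exact hG ((AddSubgroup.eq_bot_iff_forall _).2 hc')
      have hIG : i ≤ (Nat.card G - 1) * q := natCard_le_orbit_mul G (symPart H)
        (fun g hg => hGinv g fun v hv => hinv _ (inv_mem hg) v hv) hu hu0 (natCard_fix_le _ hu0)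
      set g := Nat.card G
      have hgX : g * X ≤ q * q := by rw [← pow_two]; exact hGX
      have hgq : g < q := by
        by_contra hg
        push Not at hg
        have : q * (q + 1) ≤ g * X := Nat.mul_le_mul hg hc
        nlinarith
      have hg1 : 1 ≤ g := Nat.card_pos
      have hev := (zPart_mul_torPart_le H hz).2.1 h2
      refine absurd hkey' (not_lt.2 (Nat.le_of_mul_le_mul_left ?_ hg1))
      calc g * ((q * q + 1) * (X * i * (Z * A))) = (q * q + 1) * ((g * X) * i * (Z * A)) := by ring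
        _ ≤ (q * q + 1) * ((q * q) * ((g - 1) * q) * (q - 1)) :=
          Nat.mul_le_mul_left _ (Nat.mul_le_mul (Nat.mul_le_mul hgX hIG) hev)
        _ = q ^ 3 * (q - 1) * ((g - 1) * (q * q + 1)) := by ring
        _ ≤ q ^ 3 * (q - 1) * (g * (q * (q - 1))) := by
          refine Nat.mul_le_mul_left _ ?_
          obtain ⟨t, ht⟩ : ∃ t, g = t + 1 := ⟨g - 1, by omega⟩
          obtain ⟨w, hw⟩ : ∃ w, q = t + w + 2 := ⟨q - t - 2, by omega⟩
          rw [ht, Nat.add_sub_cancel, show q - 1 = t + w + 1 by omega, hw]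
          nlinarith [Nat.zero_le ((t + w + 2) * w)]
        _ = _ := by ring
    · have h1 := card_trPart_sq_le H h2 hz
      rw [← hX, ← hq, Nat.mul_one, pow_two] at h1
      exact absurd h1 (not_le.2 (Nat.mul_lt_mul'' hc hc))
  -- it lies in a line
  have hline : ∀ v ∈ trPart H, ∃ t : F, v = t • x := by
    by_contra hc
    push Not at hc
    obtain ⟨y, hy, hyx⟩ := hc
    have hxy : f₁ x y ≠ 0 := fun e => by
      obtain ⟨t, ht⟩ := exists_smul_eq hx0 e
      exact hyx t ht
    have hy0 : y ≠ 0 := fun e => hyx 0 (by rw [e, zero_smul])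
    have hyx' : f₁ y x ≠ 0 := by rw [sympForm_swap x y, neg_ne_zero]; exact hxy
    have h1 := natCard_le_orbit_mul _ _ hinv hx hx0 (natCard_fix_le_line _ _ hinv hy hxy)
    have h2 := natCard_le_orbit_mul _ _ hinv hy hy0 (natCard_fix_le_line _ _ hinv hx hyx')
    have h3 : Nat.card {v : V₁ // v ∈ trPart H ∧ ∃ t : F, v = t • x} *
        Nat.card {v : V₁ // v ∈ trPart H ∧ ∃ t : F, v = t • y} ≤ X := by
      rw [← Nat.card_prod]
      refine Nat.card_le_card_of_injective (fun p => (⟨p.1.1 + p.2.1, add_mem p.1.2.1 p.2.2.1⟩ : trPart H)) ?_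
      rintro ⟨⟨a, ha, t, rfl⟩, ⟨b, hb, t', rfl⟩⟩ ⟨⟨c, hc, s, rfl⟩, ⟨d, hd, s', rfl⟩⟩ e
      have e' : t • x + t' • y = s • x + s' • y := congrArg Subtype.val e
      have e1 := congrArg (f₁ x) e'
      have e2 := congrArg (f₁ y) e'
      simp only [Symplectic.f_add_right, Symplectic.f_smul_right, sympForm_self, mul_zero, zero_add,
        add_zero] at e1 e2
      obtain rfl := mul_right_cancel₀ hxy e1
      obtain rfl := mul_right_cancel₀ hyx' e2
      rfl
    set m := Nat.card {v : V₁ // v ∈ trPart H ∧ ∃ t : F, v = t • x}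
    set m' := Nat.card {v : V₁ // v ∈ trPart H ∧ ∃ t : F, v = t • y}
    obtain ⟨n, hn, hin⟩ : ∃ n, n * n ≤ X ∧ i ≤ (X - 1) * n := by
      rcases le_total m m' with h | h
      · exact ⟨m, (Nat.mul_le_mul_left _ h).trans h3, h1⟩
      · exact ⟨m', (Nat.mul_le_mul_right _ h).trans h3, h2⟩
    have hn2 : 2 * n ≤ q := by
      by_contra hc'
      have : (q + 1) * (q + 1) ≤ 2 * n * (2 * n) := Nat.mul_le_mul (by omega) (by omega)
      nlinarith
    refine hbig (q * ((q - 1) * n)) (Nat.mul_le_mul hXq (hin.trans (Nat.mul_le_mul_right _ (by omega)))) ?_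
    calc (q * q + 1) * (q * ((q - 1) * n) * (2 * (q - 2)))
        = q * (q - 1) * (2 * n) * ((q - 2) * (q * q + 1)) := by ring
      _ ≤ q * (q - 1) * q * (q * q * (q - 1)) := Nat.mul_le_mul (Nat.mul_le_mul_left _ hn2) hmain
      _ = _ := by ring
  -- it is the whole line
  have hiX : i ≤ (X - 1) * q := natCard_le_orbit_mul _ _ hinv hx hx0 (natCard_fix_le _ hx0)
  choose co hco using fun v : trPart H => hline v v.2
  have hcoinj : Function.Injective co := fun a b e => Subtype.ext (by rw [hco a, hco b, e])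
  have hfull : ∀ t : F, t • x ∈ trPart H := by
    intro t
    by_contra ht
    let T : AddSubgroup F := (trPart H).comap (smulAddHom F V₁ |>.flip x)
    have hT : T ≠ ⊤ := fun e => ht (show t ∈ T from e ▸ AddSubgroup.mem_top t)
    obtain ⟨hT2, -⟩ := two_mul_card_le T hT
    have hXT : X ≤ Nat.card T := by
      refine Nat.card_le_card_of_injective (fun v => (⟨co v, ?_⟩ : T)) fun a b e =>
        hcoinj (congrArg Subtype.val e)
      show co v • x ∈ trPart H
      rw [← hco v]
      exact v.2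
    have hX2 : 2 * X ≤ q := (Nat.mul_le_mul_left _ hXT).trans hT2
    refine hbig (X * ((X - 1) * q)) (Nat.mul_le_mul_left _ hiX) ?_
    calc (q * q + 1) * (X * ((X - 1) * q) * (2 * (q - 2)))
        = (2 * X) * ((X - 1) * q) * ((q - 2) * (q * q + 1)) := by ring
      _ ≤ q * ((q - 1) * q) * (q * q * (q - 1)) :=
        Nat.mul_le_mul (Nat.mul_le_mul hX2 (Nat.mul_le_mul_right _ (by omega))) hmain
      _ = _ := by ring
  -- the Levi image is the stabiliser of this line
  set S := MulAction.stabilizer Sp₁ (Projectivization.mk F x hx0) with hS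
  have hmemS : ∀ g : Sp₁, g ∈ S ↔ ∃ a : F, (g : M₁) *ᵥ x = a • x := fun g => by
    rw [hS, MulAction.mem_stabilizer_iff, Symplectic.mk_smul', Projectivization.mk_eq_mk_iff']
    exact ⟨fun ⟨a, h⟩ => ⟨a, h.symm⟩, fun ⟨a, h⟩ => ⟨a, h.symm⟩⟩
  have hSinv : ∀ g ∈ S, ∀ v ∈ trPart H, (g : M₁) *ᵥ v ∈ trPart H := by
    intro g hg v hv
    obtain ⟨t, rfl⟩ := hline v hv
    obtain ⟨a, ha⟩ := (hmemS g).1 hg
    rw [Matrix.mulVec_smul, ha, smul_smul]
    exact hfull _
  have hScard : Nat.card S ≤ (q - 1) * q :=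
    (natCard_le_orbit_mul _ _ hSinv hx hx0 (natCard_fix_le _ hx0)).trans
      (Nat.mul_le_mul_right _ (by omega))
  have hIS : symPart H ≤ S := fun g hg => (hmemS g).2 (hline _ (hinv g hg x hx))
  have hIeq : symPart H = S := by
    by_contra hc
    have h1 : (symPart H).subgroupOf S ≠ ⊤ := fun e =>
      hc (le_antisymm hIS (Subgroup.subgroupOf_eq_top.1 e))
    have h2 : 2 * i ≤ Nat.card S := by
      rw [hi, ← Nat.card_congr (Subgroup.subgroupOfEquivOfLe hIS).toEquiv,
        ← ((symPart H).subgroupOf S).card_mul_index, mul_comm 2]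
      refine Nat.mul_le_mul_left _ ?_
      have h3 : ((symPart H).subgroupOf S).index ≠ 1 := fun h => h1 (Subgroup.index_eq_one.1 h)
      have h0 : ((symPart H).subgroupOf S).index ≠ 0 := Subgroup.index_ne_zero_of_finite
      omega
    refine hbig (X * i) le_rfl ?_
    calc (q * q + 1) * (X * i * (2 * (q - 2))) = X * (2 * i) * ((q - 2) * (q * q + 1)) := by ring
      _ ≤ q * ((q - 1) * q) * (q * q * (q - 1)) :=
        Nat.mul_le_mul (Nat.mul_le_mul hXq (h2.trans hScard)) hmain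
      _ = _ := by ring
  -- a non-trivial scalar
  obtain ⟨a, ha, ha1⟩ : ∃ a ∈ torPart H, a ≠ 1 := by
    by_contra hc
    push Not at hc
    have hA1 : A = 1 := by rw [hA, (Subgroup.eq_bot_iff_forall _).2 hc, Subgroup.card_bot]
    obtain ⟨hZ2, -⟩ := two_mul_card_le (zPart H) hz
    refine absurd hkey' (not_lt.2 (Nat.le_of_mul_le_mul_left ?_ (show 0 < 2 by norm_num)))
    calc 2 * ((q * q + 1) * (X * i * (Z * A))) = (q * q + 1) * (X * i * (2 * Z)) := by rw [hA1]; ring
      _ ≤ (q * q + 1) * (q * ((q - 1) * q) * q) := Nat.mul_le_mul_left _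
          (Nat.mul_le_mul (Nat.mul_le_mul hXq (hiX.trans (Nat.mul_le_mul_right _ (by omega)))) hZ2)
      _ = q ^ 3 * (q - 1) * (q * q + 1) := by ring
      _ ≤ q ^ 3 * (q - 1) * (2 * q * (q - 1)) := by
          refine Nat.mul_le_mul_left _ ?_
          rw [show q - 1 = r + 3 by omega, hr]
          nlinarith
      _ = _ := by ring
  obtain ⟨⟨a', g₀⟩, hp, rfl⟩ := Subgroup.mem_map.1 ha
  have hg₀ : g₀ ∈ symPart H := by
    rw [hIeq, hmemS]
    obtain ⟨t, ht⟩ := hline _ ((smul_mem_parts H hp).2 x hx)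
    refine ⟨((a'⁻¹ : Fˣ) : F) * t, ?_⟩
    rw [mul_smul, ← ht, smul_smul, ← Units.val_mul, inv_mul_cancel, Units.val_one, one_smul]
  have hal : ((a', 1) : Fˣ × Sp₁) ∈ levPart H := by
    have h1 := mul_mem hp (inv_mem ((mem_symPart H).1 hg₀))
    simpa using h1
  obtain ⟨w₁, hlift⟩ := exists_conj_lift H (ε := (1 : F))
    (fun w => by rw [one_smul]; exact one_mulVec w) hal (by
      rw [mul_one]; exact fun e => ha1 (Units.ext e))
  -- commutators give a root group
  obtain ⟨b, hb0, hb⟩ := exists_sq_ne_one hq4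
  obtain ⟨gb, hgb⟩ := Symplectic.exists_move hx0 (smul_ne_zero hb0 hx0)
  have hgbI : gb ∈ symPart H := by rw [hIeq, hmemS]; exact ⟨b, hgb⟩
  have htvI : ∀ c, tv x c ∈ symPart H := fun c => by
    rw [hIeq, hmemS]
    exact ⟨1, by rw [tv_mulVec, sympForm_self]; simp⟩
  set H' := conjBy H (uu w₁ 0) with hH'def
  have hH' : Nat.card (ptStab : Subgroup Sp₂) < Nat.card H' := natCard_conjBy_lt H (uu w₁ 0) hH
  have hne' : H' ≠ ⊤ := conjBy_ne_top H (A := uu w₁ 0) hne
  have hb' : b * b - 1 ≠ 0 := by rw [← pow_two]; exact sub_ne_zero.2 hb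
  have hroot : (emb x : Fin (1 + 1) ⊕ Fin (1 + 1) → F) ∈ rootSet H' := by
    intro c
    set d : F := c / (b * b - 1) with hd
    have hd' : b * b * d + -d = c := by rw [hd]; field_simp; ring
    have hinvd : (tv x d : Sp₁)⁻¹ = tv x (-d) :=
      inv_eq_of_mul_eq_one_right (by rw [Symplectic.tv_mul, add_neg_cancel, Symplectic.tv_zero])
    have hcomm : ⁅gb, (tv x d : Sp₁)⁆ = tv x c := by
      rw [commutatorElement_def, Symplectic.tv_conj, hgb, Symplectic.tv_smul, hinvd, Symplectic.tv_mul, hd']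
    have hl1 : ∃ z, uu (0 : V₁) z * levi 1 gb ∈ H' := hlift ((1 : Fˣ), gb) ((mem_symPart H).1 hgbI)
    have hl2 : ∃ z, uu (0 : V₁) z * levi 1 (tv x d) ∈ H' :=
      hlift ((1 : Fˣ), tv x d) ((mem_symPart H).1 (htvI d))
    have h1 := levi_commutator_mem H' (g := gb) (g' := tv x d) hl1 hl2
    rw [hcomm, levi_one_tv] at h1
    exact h1
  have hv0 : (emb x : Fin (1 + 1) ⊕ Fin (1 + 1) → F) ≠ 0 := fun e => hx0 (by simpa using congrArg res e)
  exact hne' (eq_top_of_root H' hH' (by omega) hv0 hroot)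

/-- The four dimensional case. -/
theorem eq_top_four (hq4 : 4 ≤ Fintype.card F)
    (hH : Nat.card (ptStab : Subgroup Sp₂) < Nat.card H) : H = ⊤ := by
  by_contra hne
  obtain ⟨A₀, hA₀⟩ := exists_zPart_ne_top H hne
  have hall : ∀ A : Sp₂, zPart (conjBy H A) ≠ ⊤ → trPart (conjBy H A) = ⊤ := fun A hz => by
    by_contra hX
    exact false_of_trPart_ne_top (conjBy H A) hq4 (natCard_conjBy_lt H A hH) (conjBy_ne_top H hne) hz hX
  by_cases h2 : (2 : F) = 0
  · exact false_of_trPart_top (conjBy H A₀) le_rfl hq4 h2 hA₀ (hall _ hA₀)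
      fun B hB' => by rw [conjBy_conjBy] at hB' ⊢; exact hall _ hB'
  · exact hA₀ (zPart_eq_top_of_trPart_eq_top_odd (conjBy H A₀) le_rfl h2 (hall _ hA₀))

end Cfsg.Agent.Classical.PSpMinIndex
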