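import Mathlib
import Cfsg.Agent.Lib.Classical.PSpMinIndex.SpFour

/-!
# Minimal index in the symplectic groups
-/

set_option autoImplicit false
set_option linter.unusedSectionVars false

namespace Cfsg.Agent.Classical.PSpMinIndex

open Matrix
open Cfsg.Agent.Forms.SympStd
open Cfsg.Agent.Classical.Symplectic

variable {F : Type*} [Field F] [Fintype F]

theorem eq_top_of_large (hq : 3 ≤ Fintype.card F) (k : ℕ) (hk : 1 ≤ k) :
    ¬ (k = 1 ∧ Fintype.card F = 3) → ∀ H : Subgroup (Matrix.symplecticGroup (Fin (k + 1)) F),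
      Nat.card (ptStab : Subgroup (Matrix.symplecticGroup (Fin (k + 1)) F)) < Nat.card H → H = ⊤ := by
  induction k, hk using Nat.le_induction with
  | base => exact fun hexc H hH => eq_top_four H (by omega) hH
  | succ j hj ih =>
    intro _ H hH
    refine eq_top_step H (by omega) hq hH fun hspec I hI => ?_
    have hle : Nat.card I ≤ Nat.card (ptStab : Subgroup (Matrix.symplecticGroup (Fin (j + 1)) F)) := by
      by_contra hc
      exact hI (ih (fun h => hspec ⟨by omega, h.2⟩) I (not_le.1 hc))
    calc Nat.card I * nPts (Fintype.card F) (2 * (j + 1))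
        ≤ Nat.card (ptStab : Subgroup (Matrix.symplecticGroup (Fin (j + 1)) F)) *
            nPts (Fintype.card F) (2 * (j + 1)) := Nat.mul_le_mul_right _ hle
      _ = _ := by rw [← index_ptStab, Subgroup.card_mul_index]

theorem nPts_le_index (hq : 3 ≤ Fintype.card F) {k : ℕ} (hk : 1 ≤ k)
    (hexc : ¬ (k = 1 ∧ Fintype.card F = 3)) (H : Subgroup (Matrix.symplecticGroup (Fin (k + 1)) F))
    (hH : H ≠ ⊤) : nPts (Fintype.card F) (2 * (k + 1)) ≤ H.index := by
  have hle : Nat.card H ≤ Nat.card (ptStab : Subgroup (Matrix.symplecticGroup (Fin (k + 1)) F)) := by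
    by_contra hc
    exact hH (eq_top_of_large hq k hk hexc H (not_le.1 hc))
  have hpos : 0 < Nat.card (ptStab : Subgroup (Matrix.symplecticGroup (Fin (k + 1)) F)) := Nat.card_pos
  refine Nat.le_of_mul_le_mul_left ?_ hpos
  rw [← index_ptStab, Subgroup.card_mul_index, ← H.card_mul_index]
  exact Nat.mul_le_mul_right _ hle

theorem center_le_ptStab {k : ℕ} : Subgroup.center (Matrix.symplecticGroup (Fin (k + 1)) F) ≤ ptStab :=
  fun A hA => by
    obtain ⟨a, ha⟩ := (Symplectic.mem_center_iff A).1 hA
    exact mem_ptStab.2 ⟨a, ha _⟩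

end Cfsg.Agent.Classical.PSpMinIndex
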